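import Mathlib
import Cfsg.Prelude.Def_Blocks
import Cfsg.Agent.Characters.Core
import Cfsg.Agent.OddOrderCharacters.VChar
import Cfsg.Agent.Blocks.PPart
import Cfsg.Agent.S0907
import Cfsg.Agent.S4441

/-!
# Projective characters in the principal block of a group with a Sylow `p`-subgroup of order `p`
-/

set_option autoImplicit false

open scoped ComplexConjugate
open Cfsg Cfsg.Agent.Characters.Core Cfsg.Agent.OddOrderCharacters.VChar

namespace Cfsg.Agent.H627.PrincipalFamily

/-- `p`-singular elements, up to conjugation, when the Sylow `p`-subgroups have order `p`. -/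
theorem exists_conj {K : Type*} [Group K] [Finite K] {p : ℕ} [Fact p.Prime] (P : Sylow p K)
    (hP : Nat.card P = p) (k : K) (hk : p ∣ orderOf k) :
    ∃ g x y : K, g * k * g⁻¹ = x * y ∧ x ∈ (P : Subgroup K) ∧ x ≠ 1 ∧
      y ∈ Subgroup.centralizer ((P : Subgroup K) : Set K) ∧ ¬ p ∣ orderOf y := by
  have hp : p.Prime := Fact.out
  obtain ⟨x, hx⟩ := Cfsg.Agent.Blocks.PPart.exists_isPPart p k
  obtain ⟨y, hxy, hc, ⟨n, hn⟩, hy⟩ := Cfsg.Agent.Blocks.PPart.isPPart_iff.1 hx
  have hx1 : x ≠ 1 := by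
    rintro rfl
    rw [one_mul] at hxy
    rw [hxy] at hy
    exact hy hk
  have hpg : IsPGroup p (Subgroup.zpowers x) := by
    apply IsPGroup.of_card (n := n)
    rw [Nat.card_zpowers, hn]
  obtain ⟨Q, hQ⟩ := hpg.exists_le_sylow
  obtain ⟨g, hg⟩ := MulAction.exists_smul_eq K Q P
  have hxQ : x ∈ (Q : Subgroup K) := hQ (Subgroup.mem_zpowers x)
  have hxP : g * x * g⁻¹ ∈ (P : Subgroup K) := by
    rw [← hg]
    exact Subgroup.smul_mem_pointwise_smul x (MulAut.conj g) (Q : Subgroup K) hxQ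
  have hx1' : g * x * g⁻¹ ≠ 1 := by
    intro h
    apply hx1
    rw [mul_inv_eq_one, mul_eq_left] at h
    exact h
  refine ⟨g, g * x * g⁻¹, g * y * g⁻¹, ?_, hxP, hx1', ?_, ?_⟩
  · rw [← hxy]; group
  · -- `P` is generated by `g x g⁻¹`
    have h1 : Subgroup.zpowers (g * x * g⁻¹) = (P : Subgroup K) := by
      apply Subgroup.eq_of_le_of_card_ge
      · rwa [Subgroup.zpowers_le]
      · have h2 : Nat.card (P : Subgroup K) = p := hP
        rw [h2, Nat.card_zpowers]
        have h3 : orderOf (g * x * g⁻¹) ∣ p := by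
          rw [← h2]
          have := orderOf_dvd_natCard (⟨g * x * g⁻¹, hxP⟩ : (P : Subgroup K))
          rwa [← Subgroup.orderOf_coe] at this
        rcases (Nat.dvd_prime hp).1 h3 with h4 | h4
        · exact absurd (orderOf_eq_one_iff.1 h4) hx1'
        · exact h4.ge
    rw [Subgroup.mem_centralizer_iff]
    intro z hz
    rw [SetLike.mem_coe, ← h1] at hz
    obtain ⟨i, rfl⟩ := Subgroup.mem_zpowers_iff.1 hz
    have h2 : Commute (g * x * g⁻¹) (g * y * g⁻¹) := by
      show g * x * g⁻¹ * (g * y * g⁻¹) = g * y * g⁻¹ * (g * x * g⁻¹)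
      calc g * x * g⁻¹ * (g * y * g⁻¹) = g * (x * y) * g⁻¹ := by group
        _ = g * (y * x) * g⁻¹ := by rw [hc.eq]
        _ = _ := by group
    exact h2.zpow_left i
  · have h1 : orderOf (g * y * g⁻¹ : K) = orderOf y := (MulAut.conj g).orderOf_eq y
    rwa [h1]

/-- **The family of projective characters.** -/
theorem exists_family {K : Type*} [Group K] [Fintype K] (p : ℕ) [Fact p.Prime]
    (M : Ideal AlgInt) (hM : IsPModular p M) (hodd : p ≠ 2) (P : Sylow p K)
    (hP : Nat.card P = p) :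
    ∃ (e m : ℕ) (u : Fin e → IrrCharacter K) (Φ : Fin e → K → ℂ) (s : Fin e → ℂ),
      0 < e ∧ 0 < m ∧ e * m = p - 1 ∧ (∀ i, IsGeneralizedCharacter K (Φ i)) ∧
      (∀ i k, p ∣ orderOf k → Φ i k = 0) ∧
      (∀ i j, classInner (Φ i) (Φ j) = (if i = j then 1 else 0) + (m : ℂ)) ∧
      (∀ i j, classInner (u i : K → ℂ) (Φ j) = if i = j then s j else 0) ∧ (∀ j, s j ≠ 0) ∧
      (∀ ψ ∈ principalBlock M K, ∃ b : Fin e → ℂ, ∀ y : K, ¬ p ∣ orderOf y →
        (ψ : K → ℂ) y = ∑ i, b i * (u i : K → ℂ) y) := by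
  classical
  have hp : p.Prime := Fact.out
  have := finite_irr (G := K)
  have := Fintype.ofFinite (IrrCharacter K)
  obtain ⟨e, he⟩ : ∃ e, (Subgroup.centralizer ((P : Subgroup K) : Set K)).relIndex
      (Subgroup.normalizer ((P : Subgroup K) : Set K)) = e := ⟨_, rfl⟩
  have hmul : e * ((p - 1) / e) = p - 1 := by
    obtain ⟨z, hz, a, n, hzP, hfuse, hΩ, hmul, -⟩ :=
      Cfsg.Agent.Blocks.CyclicUpper.structure_thm hM P hP e he
        (Cfsg.Agent.Blocks.CyclicAssembly.lower P hP hM e he)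
    exact hmul
  obtain ⟨X, Y, hXY, hdis, hX, hY, εX, ε, h1, h2, h3, h4, h5⟩ :=
    Cfsg.Agent.S4441.result p M hM hodd P hP e he
  set m := (p - 1) / e with hm
  have hp1 : 0 < p - 1 := by have := hp.two_le; omega
  have he0 : 0 < e := by
    rcases Nat.eq_zero_or_pos e with h | h
    · rw [h, zero_mul] at hmul; omega
    · exact h
  have hm0 : 0 < m := by
    rcases Nat.eq_zero_or_pos m with h | h
    · rw [h, mul_zero] at hmul; omega
    · exact h
  -- index `X` by `Fin e`
  have hXfin : Fintype X := Fintype.ofFinite X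
  have hYfin : Fintype Y := Fintype.ofFinite Y
  have hXc : Fintype.card X = e := by rw [← hX, Nat.card_eq_fintype_card]
  have hYc : Fintype.card Y = m := by rw [← hY, Nat.card_eq_fintype_card]
  let σ : Fin e ≃ X := (finCongr hXc.symm).trans (Fintype.equivFin X).symm
  let u : Fin e → IrrCharacter K := fun i => (σ i : IrrCharacter K)
  have huX : ∀ i, u i ∈ X := fun i => (σ i).2
  have huinj : Function.Injective u := fun i j h => σ.injective (Subtype.ext h)
  -- the sum of the exceptional characters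
  set T : K → ℂ := ∑ θ : Y, ((θ : IrrCharacter K) : K → ℂ) with hT
  have hε : (ε : ℂ) * ε = 1 := by
    rcases h2 with h | h <;> rw [h] <;> norm_num
  have hεX : ∀ i, ((εX (u i) : ℤ) : ℂ) * (εX (u i) : ℂ) = 1 := by
    intro i
    rcases (h1 _ (huX i)).1 with h | h <;> rw [h] <;> norm_num
  -- inner products
  have hirr : ∀ χ ψ : IrrCharacter K, classInner (χ : K → ℂ) (ψ : K → ℂ) =
      if χ = ψ then 1 else 0 := by
    intro χ ψ
    rw [classInner_irr χ.2 ψ.2]
    simp only [Subtype.ext_iff]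
  have huT : ∀ i, classInner (u i : K → ℂ) T = 0 := by
    intro i
    rw [hT, classInner_sum_right]
    refine Finset.sum_eq_zero fun θ _ => ?_
    rw [hirr, if_neg]
    intro h
    exact Set.disjoint_left.1 hdis (huX i) (h ▸ θ.2)
  have hTu : ∀ i, classInner T (u i : K → ℂ) = 0 := by
    intro i
    rw [← classInner_conj_symm, huT, map_zero]
  have hTT : classInner T T = m := by
    rw [hT, classInner_sum_left]
    have h6 : ∀ θ : Y, classInner ((θ : IrrCharacter K) : K → ℂ)
        (∑ θ : Y, ((θ : IrrCharacter K) : K → ℂ)) = 1 := by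
      intro θ
      rw [classInner_sum_right, Finset.sum_eq_single θ]
      · rw [hirr, if_pos rfl]
      · intro θ' _ hne
        rw [hirr, if_neg]
        intro h
        exact hne (Subtype.ext h).symm
      · intro h; exact absurd (Finset.mem_univ _) h
    rw [Finset.sum_congr rfl fun θ _ => h6 θ, Finset.sum_const, Finset.card_univ, hYc,
      nsmul_eq_mul, mul_one]
  let Φ : Fin e → K → ℂ := fun i => ((εX (u i) : ℤ) : ℂ) • (u i : K → ℂ) + (ε : ℂ) • T
  have huΦ : ∀ i j, classInner (u i : K → ℂ) (Φ j) = if i = j then ((εX (u j) : ℤ) : ℂ) else 0 := by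
    intro i j
    show classInner (u i : K → ℂ) (((εX (u j) : ℤ) : ℂ) • (u j : K → ℂ) + (ε : ℂ) • T) = _
    rw [classInner_add_right, classInner_smul_right, classInner_smul_right, huT, mul_zero,
      add_zero, hirr]
    simp only [huinj.eq_iff]
    split_ifs with h
    · simp
    · simp
  have hTΦ : ∀ j, classInner T (Φ j) = (ε : ℂ) * m := by
    intro j
    show classInner T (((εX (u j) : ℤ) : ℂ) • (u j : K → ℂ) + (ε : ℂ) • T) = _
    rw [classInner_add_right, classInner_smul_right, classInner_smul_right, hTu, mul_zero,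
      zero_add, hTT]
    simp
  -- values at `p`-singular elements
  have hval : ∀ k : K, p ∣ orderOf k → (∀ i, (u i : K → ℂ) k = (εX (u i) : ℂ)) := by
    intro k hk i
    obtain ⟨g, x, y, hg, hx, hx1, hy, hyp⟩ := exists_conj P hP k hk
    rw [← (h1 _ (huX i)).2.2 x hx hx1 y hy hyp, ← hg]
    exact (isIrr_isClassFunction (u i).2 k g).symm
  obtain ⟨θ₀⟩ : Nonempty Y := Fintype.card_pos_iff.1 (by rw [hYc]; exact hm0)
  have hone : ¬ p ∣ orderOf (1 : K) := by
    rw [orderOf_one]; exact hp.one_lt.ne' ∘ Nat.dvd_one.1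
  have hXsum : ∀ F : IrrCharacter K → ℂ, ∑ᶠ χ ∈ X, F χ = ∑ i, F (u i) := by
    intro F
    rw [← finsum_set_coe_eq_finsum_mem, finsum_eq_sum_of_fintype]
    exact (Equiv.sum_comp σ (fun χ : X => F χ)).symm
  have hTval : ∀ k : K, p ∣ orderOf k → T k = -(ε : ℂ) := by
    intro k hk
    have h6 := Cfsg.Agent.S0907.result p M hM (principalBlock M K)
      Cfsg.Agent.Blocks.CyclicUpper.isPBlock_principal 1 k hone hk
    rw [hXY, finsum_mem_union hdis (Set.toFinite _) (Set.toFinite _), hXsum,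
      ← finsum_set_coe_eq_finsum_mem, finsum_eq_sum_of_fintype] at h6
    have h7 : ∀ i, (u i : K → ℂ) 1 * conj ((u i : K → ℂ) k) = (εX (u i) : ℂ) * (u i : K → ℂ) 1 := by
      intro i
      rw [hval k hk i, map_intCast, mul_comm]
    have h8 : ∀ θ : Y, ((θ : IrrCharacter K) : K → ℂ) 1 * conj (((θ : IrrCharacter K) : K → ℂ) k) =
        ((θ₀ : IrrCharacter K) : K → ℂ) 1 * conj (((θ : IrrCharacter K) : K → ℂ) k) := by
      intro θ
      rw [h4 _ θ.2 _ θ₀.2 1 hone]
    rw [Finset.sum_congr rfl fun i _ => h7 i, Finset.sum_congr rfl fun θ _ => h8 θ,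
      ← Finset.mul_sum, ← map_sum] at h6
    have h9 := h5 _ θ₀.2 1 hone
    rw [hXsum] at h9
    rw [← h9] at h6
    have h10 : T k = ∑ θ : Y, ((θ : IrrCharacter K) : K → ℂ) k := by
      rw [hT, Finset.sum_apply]
    rw [← h10] at h6
    have hθ0 : ((θ₀ : IrrCharacter K) : K → ℂ) 1 ≠ 0 := isIrr_apply_one_ne_zero (θ₀ : IrrCharacter K).2
    have h11 : ((θ₀ : IrrCharacter K) : K → ℂ) 1 * ((ε : ℂ) + conj (T k)) = 0 := by
      rw [mul_add, mul_comm _ (ε : ℂ)]; exact h6
    have h12 := (mul_eq_zero.1 h11).resolve_left hθ0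
    have h13 : conj (T k) = -(ε : ℂ) := by
      rw [eq_neg_iff_add_eq_zero, add_comm]; exact h12
    have h14 := congrArg conj h13
    rw [Complex.conj_conj, map_neg, map_intCast] at h14
    exact h14
  refine ⟨e, m, u, Φ, fun j => ((εX (u j) : ℤ) : ℂ), he0, hm0, hmul, ?_, ?_, ?_, huΦ, ?_, ?_⟩
  · intro i
    refine gen_add (gen_intCast_smul _ (gen_of_irr (u i).2)) (gen_intCast_smul _ ?_)
    exact gen_sum _ fun θ _ => gen_of_irr (θ : IrrCharacter K).2
  · intro i k hk
    show ((εX (u i) : ℤ) : ℂ) * (u i : K → ℂ) k + (ε : ℂ) * T k = 0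
    rw [hval k hk i, hTval k hk, hεX, mul_neg, hε]
    ring
  · intro i j
    show classInner (((εX (u i) : ℤ) : ℂ) • (u i : K → ℂ) + (ε : ℂ) • T) (Φ j) = _
    rw [classInner_add_left, classInner_smul_left, classInner_smul_left, huΦ, hTΦ, ← mul_assoc, hε,
      one_mul]
    congr 1
    split_ifs with h
    · rw [h]; exact hεX j
    · rw [mul_zero]
  · intro j h
    have h6 := hεX j
    have h7 : ((εX (u j) : ℤ) : ℂ) = 0 := h
    rw [h7, mul_zero] at h6
    exact zero_ne_one h6
  · intro ψ hψ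
    rw [hXY] at hψ
    rcases hψ with hψ | hψ
    · refine ⟨fun i => if u i = ψ then 1 else 0, fun y _ => ?_⟩
      obtain ⟨i₀, hi₀⟩ : ∃ i₀, u i₀ = ψ := ⟨σ.symm ⟨ψ, hψ⟩, by
        show ((σ (σ.symm ⟨ψ, hψ⟩) : X) : IrrCharacter K) = ψ
        rw [Equiv.apply_symm_apply]⟩
      rw [Finset.sum_eq_single i₀]
      · simp [hi₀]
      · intro i _ hne
        have h6 : ¬ (u i = ψ) := fun h => hne (huinj (h.trans hi₀.symm))
        simp only [if_neg h6, zero_mul]
      · intro h; exact absurd (Finset.mem_univ _) h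
    · refine ⟨fun i => (ε : ℂ) * (εX (u i) : ℂ), fun y hy => ?_⟩
      have h6 := h5 ψ hψ y hy
      rw [hXsum] at h6
      have h7 : (ψ : K → ℂ) y = (ε : ℂ) * ((ε : ℂ) * (ψ : K → ℂ) y) := by
        rw [← mul_assoc, hε, one_mul]
      rw [h7, h6, Finset.mul_sum]
      refine Finset.sum_congr rfl fun i _ => ?_
      ring

end Cfsg.Agent.H627.PrincipalFamily
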