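import Mathlib
import Cfsg.Prelude.Def_Blocks
import Cfsg.Agent.Characters.Core
import Cfsg.Agent.OddOrderCharacters.VChar
import Cfsg.Agent.OddOrderCharacters.PF13.SumBound
import Cfsg.Agent.Blocks.PPart
import Cfsg.Agent.S0876

/-!
# Characters which do not vanish on a projective character of the section of a `p`-element

`x` a `p`-element of `G`, `K` a subgroup of `C_G(x)` containing all the `p`-regular elements of
`C_G(x)`, `θ` a generalized character of `K`, vanishing on the `p`-singular elements and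
invariant under `C_G(x)`.

* `gen_section` : `t ↦ ⟨χ (t ·), θ⟩` is a generalized character of `⟨x⟩`;
* `sum_section` : the sum over all `χ` of `|⟨χ (x ·), θ⟩|²` is `|C(x) : K| ‖θ‖²`;
* `card_le` : at most `|C(x) : K| ‖θ‖²` irreducible characters `χ` have `⟨χ (x ·), θ⟩ ≠ 0`.
-/

set_option autoImplicit false

open scoped ComplexConjugate
open Cfsg Cfsg.Agent.Characters.Core Cfsg.Agent.OddOrderCharacters.VChar

namespace Cfsg.Agent.H627.SectionBound

variable {G : Type*} [Group G]

/-- The inner product of a generalized character on the coset of an element of `A` with a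
generalized character of `K`, `A` and `K` commuting, is a generalized character of `A`. -/
theorem gen_section (A K : Subgroup G) [Fintype A] [Fintype K]
    (hAK : ∀ a ∈ A, ∀ k ∈ K, a * k = k * a) {χ : G → ℂ} (hχ : IsGeneralizedCharacter G χ)
    {θ : K → ℂ} (hθ : IsGeneralizedCharacter K θ) :
    IsGeneralizedCharacter A (fun t : A => classInner (fun k : K => χ ((t : G) * k)) θ) := by
  classical
  have hclass := gen_isClassFunction hχ
  refine gen_of_inner_int ?_ ?_
  · intro t a
    show classInner (fun k : K => χ (((a * t * a⁻¹ : A) : G) * k)) θ = _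
    congr 1
    funext k
    have h1 : (((a * t * a⁻¹ : A) : G) * k : G) = a * ((t : G) * k) * (a : G)⁻¹ := by
      have h2 := hAK _ (A.inv_mem a.2) _ k.2
      simp only [Subgroup.coe_mul, Subgroup.coe_inv, mul_assoc, h2]
    rw [h1]
    exact hclass _ _
  · intro α hα
    let f : A × K →* G := MonoidHom.noncommCoprod A.subtype K.subtype
      (fun a k => hAK a a.2 k k.2)
    have hf : ∀ (a : A) (k : K), f (a, k) = (a : G) * k := fun a k => rfl
    have h1 : IsGeneralizedCharacter (A × K) (χ ∘ f) := gen_comp f hχ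
    have h2 : IsGeneralizedCharacter (A × K)
        ((α ∘ (MonoidHom.fst A K)) * (θ ∘ (MonoidHom.snd A K))) :=
      gen_mul (gen_comp _ (gen_of_irr hα)) (gen_comp _ hθ)
    obtain ⟨n, hn⟩ := gen_inner h1 h2
    refine ⟨n, ?_⟩
    rw [← hn, classInner_def, classInner_def, Nat.card_prod, Fintype.sum_prod_type]
    simp only [classInner_def, Function.comp_apply, Pi.mul_apply, MonoidHom.coe_fst,
      MonoidHom.coe_snd, hf, map_mul, Nat.cast_mul, mul_inv]
    rw [mul_assoc, Finset.mul_sum (s := Finset.univ) (a := ((Nat.card K : ℂ)⁻¹))]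
    congr 1
    refine Finset.sum_congr rfl fun a _ => ?_
    rw [mul_assoc, Finset.sum_mul]
    congr 1
    refine Finset.sum_congr rfl fun k _ => ?_
    ring

/-- Sum over all the irreducible characters of the squared norms of the inner products on the
section of `t` with a function `θ` on `K`, zero on the `p`-singular elements. -/
theorem sum_section [Fintype G] [Fintype (IrrCharacter G)] (p : ℕ) [Fact p.Prime] (t : G)
    (ht : ∃ k : ℕ, orderOf t = p ^ k) (K : Subgroup G) [Fintype K]
    (hK : K ≤ Subgroup.centralizer ({t} : Set G))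
    (hreg : ∀ y ∈ Subgroup.centralizer ({t} : Set G), ¬ p ∣ orderOf y → y ∈ K)
    (θ : K → ℂ) (hsing : ∀ k : K, p ∣ orderOf k → θ k = 0)
    (hinv : ∀ h ∈ Subgroup.centralizer ({t} : Set G), ∀ (k k' : K),
      h * k * h⁻¹ = (k' : G) → θ k' = θ k) :
    ∑ χ : IrrCharacter G, ‖classInner (fun k : K => (χ : G → ℂ) (t * k)) θ‖ ^ 2 =
      (Nat.card (Subgroup.centralizer ({t} : Set G)) : ℝ) / (Nat.card K : ℝ) *
        (classInner θ θ).re := by
  classical
  set C := Subgroup.centralizer ({t} : Set G) with hC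
  have hKc : ∀ k : K, t * (k : G) = k * t := fun k =>
    (Subgroup.mem_centralizer_singleton_iff.1 (hK k.2)).symm
  -- the inner sum over `y'`
  have key : ∀ y : K, θ y ≠ 0 → ∑ y' : K, θ y' * (Nat.card {u : G // u * (t * y) * u⁻¹ = t * y'} : ℂ) =
      (Nat.card C : ℂ) * θ y := by
    intro y hy
    have hyr : ¬ p ∣ orderOf (y : G) := by
      intro h
      apply hy
      apply hsing
      rwa [Subgroup.orderOf_coe] at h
    have h1 : ∀ y' : K, (Nat.card {u : G // u * (t * y) * u⁻¹ = t * y'} : ℂ) =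
        ∑ u : G, if u * (t * y) * u⁻¹ = t * y' then (1 : ℂ) else 0 := by
      intro y'
      rw [Nat.card_eq_fintype_card, Fintype.card_subtype, Finset.sum_boole]
    simp only [h1, Finset.mul_sum]
    rw [Finset.sum_comm]
    have h2 : ∀ u : G, ∑ y' : K, θ y' * (if u * (t * y) * u⁻¹ = t * y' then (1 : ℂ) else 0) =
        if u ∈ C then θ y else 0 := by
      intro u
      by_cases hu : u ∈ C
      · rw [if_pos hu]
        have hut : u * t = t * u := Subgroup.mem_centralizer_singleton_iff.1 hu
        have h3 : u * (t * y) * u⁻¹ = t * (u * y * u⁻¹) := by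
          rw [← mul_assoc, hut]; group
        have h4 : u * y * u⁻¹ ∈ K := by
          apply hreg
          · exact C.mul_mem (C.mul_mem hu (hK y.2)) (C.inv_mem hu)
          · have h6 : orderOf (u * y * u⁻¹ : G) = orderOf (y : G) :=
              (MulAut.conj u).orderOf_eq (y : G)
            rw [h6]
            exact hyr
        rw [Finset.sum_eq_single (⟨u * y * u⁻¹, h4⟩ : K)]
        · rw [if_pos h3, mul_one]
          exact hinv u hu y _ rfl
        · intro y' _ hne
          rw [if_neg, mul_zero]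
          intro h5
          apply hne
          rw [h3] at h5
          exact Subtype.ext (mul_left_cancel h5).symm
        · intro h; exact absurd (Finset.mem_univ _) h
      · rw [if_neg hu]
        refine Finset.sum_eq_zero fun y' _ => ?_
        by_cases hy' : θ y' = 0
        · rw [hy', zero_mul]
        · rw [if_neg, mul_zero]
          intro h5
          apply hu
          have hyr' : ¬ p ∣ orderOf (y' : G) := by
            intro h
            apply hy'
            apply hsing
            rwa [Subgroup.orderOf_coe] at h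
          exact Cfsg.Agent.Blocks.PPart.mem_centralizer_of_conj
            (Cfsg.Agent.Blocks.PPart.isPPart_mul (hKc y) ht hyr)
            (Cfsg.Agent.Blocks.PPart.isPPart_mul (hKc y') ht hyr') h5
    rw [Finset.sum_congr rfl fun u _ => h2 u, Finset.sum_ite, Finset.sum_const_zero, add_zero,
      Finset.sum_const, nsmul_eq_mul]
    congr 2
    rw [Nat.card_eq_fintype_card, Fintype.card_subtype]
  -- complex form
  have hcx : ((∑ χ : IrrCharacter G, ‖classInner (fun k : K => (χ : G → ℂ) (t * k)) θ‖ ^ 2 : ℝ) : ℂ)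
      = (Nat.card C : ℂ) / (Nat.card K : ℂ) * classInner θ θ := by
    push_cast
    have h1 : ∀ χ : IrrCharacter G,
        ((‖classInner (fun k : K => (χ : G → ℂ) (t * k)) θ‖ : ℂ)) ^ 2 =
          ((Nat.card K : ℂ)⁻¹ * (Nat.card K : ℂ)⁻¹) * ∑ y : K, ∑ y' : K, (conj (θ y) * θ y') *
            ((χ : G → ℂ) (t * y) * conj ((χ : G → ℂ) (t * y'))) := by
      intro χ
      rw [← Complex.ofReal_pow, ← Complex.normSq_eq_norm_sq, ← Complex.mul_conj, classInner_def]
      simp only [map_mul, map_sum, map_inv₀, Complex.conj_natCast, Complex.conj_conj]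
      rw [mul_mul_mul_comm]
      congr 1
      rw [Finset.sum_mul_sum]
      refine Finset.sum_congr rfl fun y _ => Finset.sum_congr rfl fun y' _ => ?_
      ring
    rw [Finset.sum_congr rfl fun χ _ => h1 χ, ← Finset.mul_sum, Finset.sum_comm]
    have h2 : ∀ y : K, ∑ χ : IrrCharacter G, ∑ y' : K, (conj (θ y) * θ y') *
            ((χ : G → ℂ) (t * y) * conj ((χ : G → ℂ) (t * y'))) =
        (Nat.card C : ℂ) * (θ y * conj (θ y)) := by
      intro y
      rw [Finset.sum_comm]
      have h3 : ∀ y' : K, ∑ χ : IrrCharacter G, (conj (θ y) * θ y') *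
            ((χ : G → ℂ) (t * y) * conj ((χ : G → ℂ) (t * y'))) =
          conj (θ y) * (θ y' * (Nat.card {u : G // u * (t * y) * u⁻¹ = t * y'} : ℂ)) := by
        intro y'
        rw [← Finset.mul_sum, Cfsg.Agent.S0876.sum_irr_mul_conj, mul_assoc]
      rw [Finset.sum_congr rfl fun y' _ => h3 y', ← Finset.mul_sum]
      by_cases hy : θ y = 0
      · rw [hy, map_zero, zero_mul, zero_mul, mul_zero]
      · rw [key y hy]; ring
    rw [Finset.sum_congr rfl fun y _ => h2 y, ← Finset.mul_sum, classInner_def]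
    have hK0 : (Nat.card K : ℂ) ≠ 0 := card_ne_zero_complex
    field_simp
  have h3 := congrArg Complex.re hcx
  rw [Complex.ofReal_re] at h3
  rw [h3, classInner_self_eq]
  have h4 : ((Nat.card C : ℂ) / (Nat.card K : ℂ)) = (((Nat.card C : ℝ) / (Nat.card K : ℝ) : ℝ) : ℂ) := by
    push_cast; rfl
  rw [h4, ← Complex.ofReal_mul, Complex.ofReal_re, Complex.ofReal_re]

/-- **The bound.**  At most `|C(x) : K| ‖θ‖²` irreducible characters `χ` of `G` have
`⟨χ (x ·), θ⟩ ≠ 0`. -/
theorem card_le [Finite G] (p : ℕ) [Fact p.Prime] (x : G)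
    (hx : ∃ k : ℕ, orderOf x = p ^ k) (K : Subgroup G) [Fintype K]
    (hK : K ≤ Subgroup.centralizer ({x} : Set G))
    (hreg : ∀ y ∈ Subgroup.centralizer ({x} : Set G), ¬ p ∣ orderOf y → y ∈ K)
    (θ : K → ℂ) (hθ : IsGeneralizedCharacter K θ) (hsing : ∀ k : K, p ∣ orderOf k → θ k = 0)
    (hinv : ∀ h ∈ Subgroup.centralizer ({x} : Set G), ∀ (k k' : K),
      h * k * h⁻¹ = (k' : G) → θ k' = θ k) :
    (Nat.card {χ : IrrCharacter G // classInner (fun k : K => (χ : G → ℂ) (x * k)) θ ≠ 0} : ℝ) ≤
      (Nat.card (Subgroup.centralizer ({x} : Set G)) : ℝ) / (Nat.card K : ℝ) *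
        (classInner θ θ).re := by
  classical
  have := Fintype.ofFinite G
  have := finite_irr (G := G)
  have := Fintype.ofFinite (IrrCharacter G)
  set A := Subgroup.zpowers x with hA
  have : Fintype A := Fintype.ofFinite A
  set x₀ : A := ⟨x, Subgroup.mem_zpowers x⟩ with hx₀
  -- the generators of `⟨x⟩`
  set X : Finset A := Finset.univ.filter (fun t : A => ∃ m : ℕ, m.Coprime (Nat.card A) ∧ t = x₀ ^ m)
    with hX
  have hx₀X : x₀ ∈ X := by
    rw [hX, Finset.mem_filter]
    exact ⟨Finset.mem_univ _, 1, Nat.coprime_one_left _, (pow_one _).symm⟩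
  have hXpos : (0 : ℝ) < X.card := by
    exact_mod_cast Finset.card_pos.2 ⟨_, hx₀X⟩
  have hAK : ∀ a ∈ A, ∀ k ∈ K, a * k = k * a := by
    intro a ha k hk
    obtain ⟨n, rfl⟩ := Subgroup.mem_zpowers_iff.1 ha
    have h1 : Commute x k := (Subgroup.mem_centralizer_singleton_iff.1 (hK hk)).symm
    exact h1.zpow_left n
  -- centralizers of generators
  have hcard : Nat.card A = orderOf x := Nat.card_zpowers x
  have hgen : ∀ t ∈ X, (∃ k : ℕ, orderOf (t : G) = p ^ k) ∧
      Subgroup.centralizer ({(t : G)} : Set G) = Subgroup.centralizer ({x} : Set G) := by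
    intro t ht
    obtain ⟨m, hm, rfl⟩ := (Finset.mem_filter.1 ht).2
    rw [hcard] at hm
    have h1 : ((x₀ ^ m : A) : G) = x ^ m := rfl
    rw [h1]
    have h2 : orderOf (x ^ m) = orderOf x := Nat.Coprime.orderOf_pow hm.symm
    refine ⟨by rw [h2]; exact hx, ?_⟩
    have h3 : ∃ n : ℕ, (x ^ m) ^ n = x := exists_pow_eq_self_of_coprime hm
    ext g
    rw [Subgroup.mem_centralizer_singleton_iff, Subgroup.mem_centralizer_singleton_iff]
    constructor
    · intro h
      obtain ⟨n, hn⟩ := h3
      have h4 : Commute g (x ^ m) := h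
      have h5 := h4.pow_right n
      rw [hn] at h5
      exact h5
    · intro h
      have h4 : Commute g x := h
      exact h4.pow_right m
  set g : IrrCharacter G → A → ℂ := fun χ t => classInner (fun k : K => (χ : G → ℂ) ((t : G) * k)) θ
    with hg
  have hgg : ∀ χ : IrrCharacter G, IsGeneralizedCharacter A (g χ) := fun χ =>
    gen_section A K hAK (gen_of_irr χ.2) hθ
  -- Galois conjugates
  have hne : ∀ χ : IrrCharacter G, g χ x₀ ≠ 0 → ∀ t ∈ X, g χ t ≠ 0 := by
    intro χ h t ht
    obtain ⟨m, hm, rfl⟩ := (Finset.mem_filter.1 ht).2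
    obtain ⟨σ, hσ⟩ := Cfsg.Agent.OddOrderCharacters.PF13.SumBound.gen_exists_ringEquiv (G := A) hm
    rw [← hσ _ (hgg χ)]
    exact (map_ne_zero_iff σ σ.injective).2 h
  have hXclosed : ∀ t ∈ X, ∀ m : ℕ, m.Coprime (Nat.card A) → t ^ m ∈ X := by
    intro t ht m hm
    obtain ⟨m', hm', rfl⟩ := (Finset.mem_filter.1 ht).2
    rw [hX, Finset.mem_filter]
    exact ⟨Finset.mem_univ _, m' * m, hm'.mul_left hm, by rw [pow_mul]⟩
  have hlow : ∀ χ : IrrCharacter G, g χ x₀ ≠ 0 → (X.card : ℝ) ≤ ∑ t ∈ X, ‖g χ t‖ ^ 2 := by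
    intro χ h
    have h1 := Cfsg.Agent.OddOrderCharacters.PF13.SumBound.card_le_sum_sq (G := A)
      (Finset.univ : Finset Unit) (fun _ => g χ) (fun _ _ => hgg χ) X hXclosed
      (fun t ht => ⟨(), Finset.mem_univ _, hne χ h t ht⟩)
    simpa using h1
  set S : Finset (IrrCharacter G) := Finset.univ.filter (fun χ => g χ x₀ ≠ 0) with hS
  have h1 : (S.card : ℝ) * X.card ≤ ∑ t ∈ X, ∑ χ : IrrCharacter G, ‖g χ t‖ ^ 2 := by
    calc (S.card : ℝ) * X.card = ∑ χ ∈ S, (X.card : ℝ) := by
          rw [Finset.sum_const, nsmul_eq_mul]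
      _ ≤ ∑ χ ∈ S, ∑ t ∈ X, ‖g χ t‖ ^ 2 :=
          Finset.sum_le_sum fun χ hχ => hlow χ (Finset.mem_filter.1 hχ).2
      _ ≤ ∑ χ : IrrCharacter G, ∑ t ∈ X, ‖g χ t‖ ^ 2 :=
          Finset.sum_le_sum_of_subset_of_nonneg (Finset.subset_univ _)
            fun χ _ _ => Finset.sum_nonneg fun t _ => by positivity
      _ = _ := Finset.sum_comm
  have h2 : ∀ t ∈ X, ∑ χ : IrrCharacter G, ‖g χ t‖ ^ 2 =
      (Nat.card (Subgroup.centralizer ({x} : Set G)) : ℝ) / (Nat.card K : ℝ) *
        (classInner θ θ).re := by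
    intro t ht
    obtain ⟨h3, h4⟩ := hgen t ht
    have h5 := sum_section p (t : G) h3 K (by rw [h4]; exact hK) (by rw [h4]; exact hreg) θ hsing
      (by rw [h4]; exact hinv)
    rw [h4] at h5
    exact h5
  rw [Finset.sum_congr rfl h2, Finset.sum_const, nsmul_eq_mul, mul_comm] at h1
  have h3 := le_of_mul_le_mul_left h1 hXpos
  have h4 : Nat.card {χ : IrrCharacter G // classInner (fun k : K => (χ : G → ℂ) (x * k)) θ ≠ 0} =
      S.card := by
    rw [Nat.card_eq_fintype_card, Fintype.card_subtype]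
  rw [h4]
  exact h3

end Cfsg.Agent.H627.SectionBound
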