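import Mathlib
import Cfsg.Prelude.Def_Blocks
import Cfsg.Agent.Characters.Core
import Cfsg.Agent.OddOrderCharacters.VChar
import Cfsg.Agent.CharactersDeep.SumRootsUnity
import Cfsg.Agent.S0942
import Cfsg.Agent.Blocks.PrincipalInflate
import Cfsg.Agent.H627.SectionBound
import Cfsg.Agent.H627.LocalStructure
import Cfsg.Agent.H627.BlockRestrict
import Cfsg.Agent.H627.PrincipalFamily

/-!
# Characters of `p'`-degree in the principal block and small centralizers of `p`-elements

If the centralizer of a `p`-element has Sylow `p`-subgroups of order at most `p²` then the principal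
`p`-block has at most `p²` irreducible characters of degree prime to `p`.
-/

set_option autoImplicit false

open scoped ComplexConjugate
open Cfsg Cfsg.Agent.Characters.Core Cfsg.Agent.OddOrderCharacters.VChar

namespace Cfsg.Agent.H627.PrincipalCount

variable {G : Type*} [Group G]

/-- A character of degree prime to `p` does not vanish at a `p`-element. -/
theorem apply_ne_zero [Finite G] {p : ℕ} [Fact p.Prime] {χ : G → ℂ} (hχ : IsCharacter G χ)
    (hd : ¬ p ∣ charDegree χ) (x : G) (hx : ∃ k : ℕ, orderOf x = p ^ k) : χ x ≠ 0 := by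
  have hp : p.Prime := Fact.out
  obtain ⟨k, hk⟩ := hx
  obtain ⟨d, μ, hd', hμ, hpow⟩ := Cfsg.Agent.Characters.GaloisBasic.isCharacter_exists_fin_pow hχ x
    (n := p ^ k) (pow_ne_zero _ hp.ne_zero) (by rw [← hk, pow_orderOf_eq_one])
  have h1 := hpow 1
  simp only [pow_one] at h1
  rw [h1]
  apply Cfsg.Agent.CharactersDeep.SumRootsUnity.sum_ne_zero_of_not_dvd (m := k) μ hμ
  rw [Fintype.card_fin]
  have h2 : charDegree χ = d := by
    show ⌊(χ 1).re⌋₊ = d
    rw [hd', Complex.natCast_re, Nat.floor_natCast]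
  rwa [h2] at hd

/-- The case of a centralizer with a normal `p`-complement. -/
theorem case_one [Finite G] (p : ℕ) [Fact p.Prime] (M : Ideal AlgInt) (hM : IsPModular p M)
    (x : G) (hx : ∃ k : ℕ, orderOf x = p ^ k) (L : Subgroup G)
    (hL : ∀ y, y ∈ L ↔ y ∈ Subgroup.centralizer ({x} : Set G) ∧ ¬ p ∣ orderOf y)
    (hcard : Nat.card (Subgroup.centralizer ({x} : Set G)) ≤ p ^ 2 * Nat.card L) :
    Nat.card {χ : IrrCharacter G // χ ∈ principalBlock M G ∧ ¬ p ∣ charDegree (χ : G → ℂ)} ≤
      p ^ 2 := by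
  classical
  have hp : p.Prime := Fact.out
  have := Fintype.ofFinite L
  have := finite_irr (G := G)
  have hLpos : (0 : ℝ) < Nat.card L := by exact_mod_cast Nat.card_pos
  have hLle : L ≤ Subgroup.centralizer ({x} : Set G) := fun y hy => ((hL y).1 hy).1
  have hcop : (Nat.card L).Coprime p := by
    rw [Nat.coprime_comm, Nat.Prime.coprime_iff_not_dvd hp]
    intro hd
    obtain ⟨y, hy⟩ := exists_prime_orderOf_dvd_card' p hd
    have h1 := ((hL y).1 y.2).2
    rw [Subgroup.orderOf_coe, hy] at h1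
    exact h1 dvd_rfl
  have hcore : ∀ k : L, (k : G) ∈ centralizerPPrimeCore p x := by
    intro k
    refine ⟨⟨k, hLle k.2⟩, ?_, rfl⟩
    have hn : (L.subgroupOf (Subgroup.centralizer ({x} : Set G))).Normal := by
      refine ⟨fun n hn g => ?_⟩
      rw [Subgroup.mem_subgroupOf, hL] at hn ⊢
      refine ⟨(g * n * g⁻¹).2, ?_⟩
      have h1 : orderOf ((g * n * g⁻¹ : Subgroup.centralizer ({x} : Set G)) : G) =
          orderOf (n : G) := (MulAut.conj (g : G)).orderOf_eq (n : G)
      rw [h1]
      exact hn.2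
    have hc : (Nat.card (L.subgroupOf (Subgroup.centralizer ({x} : Set G)))).Coprime p := by
      rw [Nat.card_congr (Subgroup.subgroupOfEquivOfLe hLle).toEquiv]
      exact hcop
    have h2 : L.subgroupOf (Subgroup.centralizer ({x} : Set G)) ≤
        pPrimeCore p (Subgroup.centralizer ({x} : Set G)) := le_sSup ⟨hn, hc⟩
    exact h2 (Subgroup.mem_subgroupOf.2 k.2)
  have hbound := Cfsg.Agent.H627.SectionBound.card_le p x hx L hLle
    (fun y hy hy' => (hL y).2 ⟨hy, hy'⟩) (1 : L → ℂ) gen_one
    (fun k hk => by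
      exfalso
      have h1 := ((hL k).1 k.2).2
      rw [Subgroup.orderOf_coe] at h1
      exact h1 hk)
    (fun _ _ _ _ _ => rfl)
  have hnorm : (classInner (1 : L → ℂ) 1).re = 1 := by
    rw [classInner_irr_self isIrr_one, Complex.one_re]
  rw [hnorm, mul_one] at hbound
  have h2 : (Nat.card (Subgroup.centralizer ({x} : Set G)) : ℝ) / (Nat.card L : ℝ) ≤ (p ^ 2 : ℕ) := by
    rw [div_le_iff₀ hLpos]
    exact_mod_cast hcard
  have h3 := hbound.trans h2
  have h4 : Nat.card {χ : IrrCharacter G // classInner (fun k : L => (χ : G → ℂ) (x * k)) 1 ≠ 0} ≤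
      p ^ 2 := by exact_mod_cast h3
  refine le_trans ?_ h4
  have hfin : Finite {χ : IrrCharacter G // classInner (fun k : L => (χ : G → ℂ) (x * k)) 1 ≠ 0} :=
    inferInstance
  refine Nat.card_le_card_of_injective
    (fun χ : {χ : IrrCharacter G // χ ∈ principalBlock M G ∧ ¬ p ∣ charDegree (χ : G → ℂ)} =>
      (⟨χ.1, ?_⟩ : {χ : IrrCharacter G // classInner (fun k : L => (χ : G → ℂ) (x * k)) 1 ≠ 0})) ?_
  · have h5 : (fun k : L => ((χ : IrrCharacter G) : G → ℂ) (x * k)) =
        ((χ : IrrCharacter G) : G → ℂ) x • (1 : L → ℂ) := by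
      funext k
      rw [Cfsg.Agent.S0942.result p M hM x hx (k : G) (hcore k) χ.1 χ.2.1]
      simp
    show classInner (fun k : L => ((χ : IrrCharacter G) : G → ℂ) (x * k)) 1 ≠ 0
    rw [h5, classInner_smul_left, classInner_irr_self isIrr_one, mul_one]
    exact apply_ne_zero (isIrr_isCharacter χ.1.2) χ.2.2 x hx
  · intro χ ψ h
    have h5 := congrArg Subtype.val h
    exact Subtype.ext h5

/-- A sequence which vanishes at both ends and is not zero has at least two jumps. -/
theorem two_le_card (e : ℕ) (F : ℕ → ℂ) (h0 : F 0 = 0) (he : F (e + 1) = 0)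
    (hne : ∃ i, i ≤ e + 1 ∧ F i ≠ 0) :
    2 ≤ ((Finset.range (e + 1)).filter (fun j => F (j + 1) - F j ≠ 0)).card := by
  classical
  set S := (Finset.range (e + 1)).filter (fun j => F (j + 1) - F j ≠ 0) with hS
  have hsum : ∑ j ∈ Finset.range (e + 1), (F (j + 1) - F j) = 0 := by
    rw [Finset.sum_range_sub, h0, he, sub_zero]
  by_contra hcon
  have h1 : S.card = 0 ∨ S.card = 1 := by omega
  rcases h1 with h1 | h1
  · rw [Finset.card_eq_zero] at h1
    have h2 : ∀ j, j ≤ e + 1 → F j = 0 := by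
      intro j
      induction j with
      | zero => intro _; exact h0
      | succ j ih =>
        intro hj
        have h3 : j ∉ S := by rw [h1]; exact Finset.notMem_empty _
        have h4 : F (j + 1) - F j = 0 := by
          by_contra h5
          exact h3 (Finset.mem_filter.2 ⟨Finset.mem_range.2 (by omega), h5⟩)
        rw [ih (by omega), sub_zero] at h4
        exact h4
    obtain ⟨i, hi, hi'⟩ := hne
    exact hi' (h2 i hi)
  · obtain ⟨j₀, hj₀⟩ := Finset.card_eq_one.1 h1
    have h2 : ∑ j ∈ Finset.range (e + 1), (F (j + 1) - F j) = F (j₀ + 1) - F j₀ := by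
      apply Finset.sum_eq_single_of_mem
      · have : j₀ ∈ S := by rw [hj₀]; exact Finset.mem_singleton_self _
        exact (Finset.mem_filter.1 this).1
      · intro j hj hne'
        by_contra h3
        have : j ∈ S := Finset.mem_filter.2 ⟨hj, h3⟩
        rw [hj₀, Finset.mem_singleton] at this
        exact hne' this
    rw [hsum] at h2
    have h3 : j₀ ∈ S := by rw [hj₀]; exact Finset.mem_singleton_self _
    exact (Finset.mem_filter.1 h3).2 h2.symm

/-- The combinatorial bound. -/
theorem add_le_of_mul_eq {e m p : ℕ} (he : 0 < e) (hm : 0 < m) (h : e * m = p - 1) (hp : 0 < p) :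
    e + m ≤ p := by
  obtain ⟨e, rfl⟩ := Nat.exists_eq_succ_of_ne_zero he.ne'
  obtain ⟨m, rfl⟩ := Nat.exists_eq_succ_of_ne_zero hm.ne'
  have h1 : (e + 1) * (m + 1) + 1 = p := by
    simp only [Nat.succ_eq_add_one] at h
    omega
  simp only [Nat.succ_eq_add_one]
  nlinarith [Nat.zero_le (e * m)]

/-- The projection onto the second factor. -/
theorem exists_proj [Finite G] {p : ℕ} [Fact p.Prime] (x : G) (hx : orderOf x = p)
    (K : Subgroup G) (hK : K ≤ Subgroup.centralizer ({x} : Set G)) (hxK : x ∉ K)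
    (hcard : Nat.card (Subgroup.centralizer ({x} : Set G)) = p * Nat.card K) :
    ∃ π : Subgroup.centralizer ({x} : Set G) →* K,
      (∀ k, π (Subgroup.inclusion hK k) = k) ∧
      (∀ h : Subgroup.centralizer ({x} : Set G), ∃ i : ℤ, (h : G) = x ^ i * (π h : G)) ∧
      π.ker ≤ Subgroup.center (Subgroup.centralizer ({x} : Set G)) := by
  classical
  have hp : p.Prime := Fact.out
  set H := Subgroup.centralizer ({x} : Set G) with hH
  have hxH : x ∈ H := Subgroup.mem_centralizer_singleton_iff.2 rfl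
  set z : H := ⟨x, hxH⟩ with hz
  have hzc : z ∈ Subgroup.center H := by
    rw [Subgroup.mem_center_iff]
    intro g
    exact Subtype.ext (Subgroup.mem_centralizer_singleton_iff.1 g.2)
  have hzc' : Subgroup.zpowers z ≤ Subgroup.center H := by rwa [Subgroup.zpowers_le]
  let f : Subgroup.zpowers z × K →* H := MonoidHom.noncommCoprod (Subgroup.zpowers z).subtype
    (Subgroup.inclusion hK) (fun a k => (Subgroup.mem_center_iff.1 (hzc' a.2) _).symm)
  have hf : ∀ (a : Subgroup.zpowers z) (k : K), f (a, k) = (a : H) * Subgroup.inclusion hK k :=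
    fun a k => rfl
  have hinj : Function.Injective f := by
    rw [injective_iff_map_eq_one]
    rintro ⟨a, k⟩ h
    rw [hf] at h
    have h1 : (a : H) = (Subgroup.inclusion hK k)⁻¹ := mul_eq_one_iff_eq_inv.1 h
    have h2 : ((a : H) : G) ∈ K := by
      rw [h1]
      exact K.inv_mem k.2
    obtain ⟨i, hi⟩ := Subgroup.mem_zpowers_iff.1 a.2
    have h3 : ((a : H) : G) = x ^ i := by rw [← hi]; rfl
    rw [h3] at h2
    have h4 : x ^ i = 1 := by
      by_contra h5
      apply hxK
      have h6 : ¬ (p : ℤ) ∣ i := by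
        intro h7
        apply h5
        rw [← orderOf_dvd_iff_zpow_eq_one, hx]
        exact h7
      have h7 : IsCoprime (p : ℤ) i := by
        rw [Int.isCoprime_iff_gcd_eq_one]
        have h8 : Nat.Coprime p i.natAbs := by
          rw [Nat.Prime.coprime_iff_not_dvd hp]
          intro h9
          exact h6 (Int.natCast_dvd.2 h9)
        simpa [Int.gcd] using h8
      obtain ⟨a, b, hab⟩ := h7
      have h8 : x = (x ^ i) ^ b := by
        have h9 : x ^ (a * (p : ℤ) + b * i) = x := by rw [hab, zpow_one]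
        rw [zpow_add, mul_comm a, zpow_mul, zpow_natCast, ← hx, pow_orderOf_eq_one, one_zpow,
          one_mul, mul_comm b, zpow_mul] at h9
        exact h9.symm
      rw [h8]
      exact K.zpow_mem h2 b
    have h5 : (a : H) = 1 := Subtype.ext (h3.trans h4)
    have h6 : Subgroup.inclusion hK k = 1 := by
      rw [h5, one_mul] at h
      exact h
    have h7 : k = 1 := by
      apply Subtype.ext
      exact congrArg (fun y : H => (y : G)) h6
    exact Prod.ext (Subtype.ext h5) h7
  have hbij : Function.Bijective f := by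
    rw [Nat.bijective_iff_injective_and_card]
    refine ⟨hinj, ?_⟩
    rw [Nat.card_prod, Nat.card_zpowers, hcard]
    congr 1
    rw [← Subgroup.orderOf_coe, hz]
    exact hx
  let E : Subgroup.zpowers z × K ≃* H := MulEquiv.ofBijective f hbij
  have hE : ∀ q, E q = f q := fun q => rfl
  refine ⟨(MonoidHom.snd _ _).comp E.symm.toMonoidHom, ?_, ?_, ?_⟩
  · intro k
    have h1 : E (1, k) = Subgroup.inclusion hK k := by
      rw [hE, hf]; simp
    show (E.symm (Subgroup.inclusion hK k)).2 = k
    rw [← h1, MulEquiv.symm_apply_apply]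
  · intro h
    obtain ⟨q, rfl⟩ := E.surjective h
    obtain ⟨i, hi⟩ := Subgroup.mem_zpowers_iff.1 q.1.2
    refine ⟨i, ?_⟩
    have h1 : ((MonoidHom.snd _ _).comp E.symm.toMonoidHom) (E q) = q.2 := by
      show (E.symm (E q)).2 = q.2
      rw [MulEquiv.symm_apply_apply]
    rw [h1, hE]
    show ((q.1 : H) : G) * (q.2 : G) = x ^ i * (q.2 : G)
    congr 1
    rw [← hi]; rfl
  · intro h hh
    obtain ⟨q, rfl⟩ := E.surjective h
    have h1 : q.2 = 1 := by
      have h2 : (E.symm (E q)).2 = 1 := hh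
      rwa [MulEquiv.symm_apply_apply] at h2
    have h2 : E q = (q.1 : H) := by
      rw [hE]
      have : q = (q.1, q.2) := rfl
      rw [this, hf, h1]; simp
    rw [h2]
    exact hzc' q.1.2

/-- The case of a centralizer `⟨x⟩ × K` with `x` of order `p` and `K` with Sylow `p`-subgroups of
order `p`. -/
theorem case_two [Finite G] (p : ℕ) [Fact p.Prime] (M : Ideal AlgInt) (hM : IsPModular p M)
    (hodd : p ≠ 2) (x : G) (hx : orderOf x = p) (K : Subgroup G)
    (hK : K ≤ Subgroup.centralizer ({x} : Set G))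
    (hreg : ∀ y ∈ Subgroup.centralizer ({x} : Set G), ¬ p ∣ orderOf y → y ∈ K)
    (hxK : x ∉ K) (hcard : Nat.card (Subgroup.centralizer ({x} : Set G)) = p * Nat.card K)
    (hfac : (Nat.card K).factorization p = 1) :
    Nat.card {χ : IrrCharacter G // χ ∈ principalBlock M G ∧ ¬ p ∣ charDegree (χ : G → ℂ)} ≤
      p ^ 2 := by
  classical
  have hp : p.Prime := Fact.out
  have := Fintype.ofFinite K
  have := finite_irr (G := G)
  have := Fintype.ofFinite (IrrCharacter G)
  have hx' : ∃ k : ℕ, orderOf x = p ^ k := ⟨1, by rw [hx, pow_one]⟩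
  set H := Subgroup.centralizer ({x} : Set G) with hH
  obtain ⟨π, hπι, hπ, hker⟩ : ∃ π : H →* K, (∀ k, π (Subgroup.inclusion hK k) = k) ∧
      (∀ h : H, ∃ i : ℤ, (h : G) = x ^ i * (π h : G)) ∧ π.ker ≤ Subgroup.center H :=
    exists_proj x hx K hK hxK hcard
  have := Fintype.ofFinite H
  have := finite_irr (G := H)
  have := Fintype.ofFinite (IrrCharacter H)
  obtain ⟨P⟩ : Nonempty (Sylow p K) := inferInstance
  have hP : Nat.card P = p := by rw [P.card_eq_multiplicity, hfac, pow_one]
  obtain ⟨e, m, u, Φ, s, he0, hm0, hem, hgen, hsing, hΦΦ, huΦ, hs, hspan⟩ :=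
    Cfsg.Agent.H627.PrincipalFamily.exists_family p M hM hodd P hP
  have hem' : e + m ≤ p := add_le_of_mul_eq he0 hm0 hem hp.pos
  -- the sequence
  let Ψ : ℕ → K → ℂ := fun j => if h : 1 ≤ j ∧ j ≤ e then Φ ⟨j - 1, by omega⟩ else 0
  have hΨ0 : Ψ 0 = 0 := dif_neg (by omega)
  have hΨe : Ψ (e + 1) = 0 := dif_neg (by omega)
  have hΨ1 : ∀ j (hj : j < e), Ψ (j + 1) = Φ ⟨j, hj⟩ := by
    intro j hj
    have h1 : 1 ≤ j + 1 ∧ j + 1 ≤ e := by omega
    show (if h : 1 ≤ j + 1 ∧ j + 1 ≤ e then Φ ⟨j + 1 - 1, by omega⟩ else 0) = _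
    rw [dif_pos h1]
    rfl
  have hΨgen : ∀ j, IsGeneralizedCharacter K (Ψ j) := by
    intro j
    by_cases h : 1 ≤ j ∧ j ≤ e
    · have h1 : Ψ j = Φ ⟨j - 1, by omega⟩ := dif_pos h
      rw [h1]; exact hgen _
    · have h1 : Ψ j = 0 := dif_neg h
      rw [h1]; exact gen_zero
  have hΨsing : ∀ j k, p ∣ orderOf k → Ψ j k = 0 := by
    intro j k hk
    by_cases h : 1 ≤ j ∧ j ≤ e
    · have h1 : Ψ j = Φ ⟨j - 1, by omega⟩ := dif_pos h
      rw [h1]; exact hsing _ _ hk
    · have h1 : Ψ j = 0 := dif_neg h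
      rw [h1]; rfl
  let Θ : ℕ → K → ℂ := fun j => Ψ (j + 1) - Ψ j
  have hΘgen : ∀ j, IsGeneralizedCharacter K (Θ j) := fun j => gen_sub (hΨgen _) (hΨgen _)
  -- the bound for each `Θ j`
  have hb : ∀ j, (Nat.card {χ : IrrCharacter G //
      classInner (fun k : K => (χ : G → ℂ) (x * k)) (Θ j) ≠ 0} : ℝ) ≤
        p * (classInner (Θ j) (Θ j)).re := by
    intro j
    have h1 := Cfsg.Agent.H627.SectionBound.card_le p x hx' K hK hreg (Θ j) (hΘgen j)
      (fun k hk => by
        show Ψ (j + 1) k - Ψ j k = 0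
        rw [hΨsing _ _ hk, hΨsing _ _ hk, sub_zero])
      (fun h hh k k' hkk' => by
        obtain ⟨i, hi⟩ := hπ ⟨h, hh⟩
        have h2 : (k' : G) = (((π ⟨h, hh⟩) * k * (π ⟨h, hh⟩)⁻¹ : K) : G) := by
          rw [← hkk']
          have h3 : h = x ^ i * (π ⟨h, hh⟩ : G) := hi
          have h4 : Commute x (((π ⟨h, hh⟩) * k * (π ⟨h, hh⟩)⁻¹ : K) : G) :=
            (Subgroup.mem_centralizer_singleton_iff.1 (hK ((π ⟨h, hh⟩) * k * (π ⟨h, hh⟩)⁻¹ : K).2)).symm
          have h5 := (h4.zpow_left i).eq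
          calc h * k * h⁻¹ = x ^ i * (((π ⟨h, hh⟩) * k * (π ⟨h, hh⟩)⁻¹ : K) : G) * (x ^ i)⁻¹ := by
                conv_lhs => rw [h3]
                simp only [Subgroup.coe_mul, Subgroup.coe_inv, mul_inv_rev, mul_assoc]
            _ = _ := by rw [h5]; group
        have h3 : k' = (π ⟨h, hh⟩) * k * (π ⟨h, hh⟩)⁻¹ := Subtype.ext h2
        rw [h3]
        exact gen_isClassFunction (hΘgen j) k (π ⟨h, hh⟩))
    have hKpos : (Nat.card K : ℝ) ≠ 0 := by exact_mod_cast Nat.card_pos.ne'
    have h2 : (Nat.card H : ℝ) / (Nat.card K : ℝ) = p := by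
      rw [hcard]; push_cast
      field_simp
    rw [h2] at h1
    exact h1
  -- the sum of the norms
  have hnorm : ∑ j ∈ Finset.range (e + 1), classInner (Θ j) (Θ j) = 2 * e + 2 * m := by
    obtain ⟨e', rfl⟩ := Nat.exists_eq_succ_of_ne_zero he0.ne'
    have h1 : ∀ j, classInner (Θ j) (Θ j) = classInner (Ψ (j + 1)) (Ψ (j + 1)) -
        classInner (Ψ (j + 1)) (Ψ j) - (classInner (Ψ j) (Ψ (j + 1)) - classInner (Ψ j) (Ψ j)) := by
      intro j
      show classInner (Ψ (j + 1) - Ψ j) (Ψ (j + 1) - Ψ j) = _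
      rw [classInner_sub_left, classInner_sub_right, classInner_sub_right]
    have hd : ∀ j, j < e'.succ → classInner (Ψ (j + 1)) (Ψ (j + 1)) = 1 + (m : ℂ) := by
      intro j hj
      rw [hΨ1 j hj, hΦΦ, if_pos rfl]
    have ho : ∀ j, j < e' → classInner (Ψ (j + 1 + 1)) (Ψ (j + 1)) = (m : ℂ) := by
      intro j hj
      rw [hΨ1 j (by omega), hΨ1 (j + 1) (by omega), hΦΦ, if_neg, zero_add]
      intro h
      have := congrArg Fin.val h
      simp at this
    have ho' : ∀ j, j < e' → classInner (Ψ (j + 1)) (Ψ (j + 1 + 1)) = (m : ℂ) := by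
      intro j hj
      rw [hΨ1 j (by omega), hΨ1 (j + 1) (by omega), hΦΦ, if_neg, zero_add]
      intro h
      have := congrArg Fin.val h
      simp at this
    rw [Finset.sum_congr rfl fun j _ => h1 j, Finset.sum_sub_distrib, Finset.sum_sub_distrib,
      Finset.sum_sub_distrib]
    have s1 : ∑ j ∈ Finset.range (e'.succ + 1), classInner (Ψ (j + 1)) (Ψ (j + 1)) =
        (e' + 1) * (1 + (m : ℂ)) := by
      rw [Finset.sum_range_succ, hΨe, classInner_zero_left, add_zero,
        Finset.sum_congr rfl fun j hj => hd j (Finset.mem_range.1 hj), Finset.sum_const,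
        Finset.card_range, nsmul_eq_mul]
      push_cast; ring
    have s2 : ∑ j ∈ Finset.range (e'.succ + 1), classInner (Ψ j) (Ψ j) =
        (e' + 1) * (1 + (m : ℂ)) := by
      rw [Finset.sum_range_succ', hΨ0, classInner_zero_left, add_zero,
        Finset.sum_congr rfl fun j hj => hd j (Finset.mem_range.1 hj), Finset.sum_const,
        Finset.card_range, nsmul_eq_mul]
      push_cast; ring
    have s3 : ∑ j ∈ Finset.range (e'.succ + 1), classInner (Ψ (j + 1)) (Ψ j) = e' * (m : ℂ) := by
      rw [Finset.sum_range_succ, hΨe, classInner_zero_left, add_zero, Finset.sum_range_succ', hΨ0,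
        classInner_zero_right, add_zero,
        Finset.sum_congr rfl fun j hj => ho j (Finset.mem_range.1 hj), Finset.sum_const,
        Finset.card_range, nsmul_eq_mul]
    have s4 : ∑ j ∈ Finset.range (e'.succ + 1), classInner (Ψ j) (Ψ (j + 1)) = e' * (m : ℂ) := by
      rw [Finset.sum_range_succ, hΨe, classInner_zero_right, add_zero, Finset.sum_range_succ', hΨ0,
        classInner_zero_left, add_zero,
        Finset.sum_congr rfl fun j hj => ho' j (Finset.mem_range.1 hj), Finset.sum_const,
        Finset.card_range, nsmul_eq_mul]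
    rw [s1, s2, s3, s4]
    push_cast; ring
  have hnorm' : ∑ j ∈ Finset.range (e + 1), (classInner (Θ j) (Θ j)).re = 2 * e + 2 * m := by
    rw [← Complex.re_sum, hnorm]
    simp
  -- the nonvanishing
  have hnv : ∀ χ : IrrCharacter G, χ ∈ principalBlock M G → ¬ p ∣ charDegree (χ : G → ℂ) →
      ∃ i : Fin e, classInner (fun k : K => (χ : G → ℂ) (x * k)) (Φ i) ≠ 0 := by
    intro χ hχ hd
    by_contra hcon
    push Not at hcon
    have h1 : ∀ ξ : IrrCharacter H, ∃ b : Fin e → ℂ, ξ ∈ principalBlock M H →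
        ∀ k : K, ¬ p ∣ orderOf k → (ξ : H → ℂ) (Subgroup.inclusion hK k) =
          ∑ i, b i * (u i : K → ℂ) k := by
      intro ξ
      by_cases hξ : ξ ∈ principalBlock M H
      · obtain ⟨c, ψ, hψ, hc⟩ := Cfsg.Agent.H627.BlockRestrict.exists_restrict
          (Subgroup.inclusion hK) π hπι hker ξ hξ
        obtain ⟨b, hb⟩ := hspan ψ hψ
        refine ⟨fun i => c * b i, fun _ k hk => ?_⟩
        rw [hc, hb k hk, Finset.mul_sum]
        exact Finset.sum_congr rfl fun i _ => by ring
      · exact ⟨0, fun h => absurd h hξ⟩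
    choose b hb using h1
    let B : Fin e → ℂ := fun i => ∑ ξ : IrrCharacter H with ξ ∈ principalBlock M H,
      classInner (fun c : H => (χ : G → ℂ) (x * (c : G))) (ξ : H → ℂ) * b ξ i
    have hf : ∀ k : K, ¬ p ∣ orderOf k → (χ : G → ℂ) (x * k) = ∑ i, B i * (u i : K → ℂ) k := by
      intro k hk
      have hk' : ¬ p ∣ orderOf (Subgroup.inclusion hK k) := by
        have h2 : orderOf (Subgroup.inclusion hK k) = orderOf k :=
          orderOf_injective (Subgroup.inclusion hK) (Subgroup.inclusion_injective hK) k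
        rwa [h2]
      have h2 := Cfsg.Agent.Blocks.PrincipalInflate.section_eq hM x hx' (H := H) hH hχ
        (Subgroup.inclusion hK k) hk'
      have h3 : ((Subgroup.inclusion hK k : H) : G) = k := rfl
      rw [h3] at h2
      rw [h2]
      show _ = ∑ i, (∑ ξ : IrrCharacter H with ξ ∈ principalBlock M H,
        classInner (fun c : H => (χ : G → ℂ) (x * (c : G))) (ξ : H → ℂ) * b ξ i) * (u i : K → ℂ) k
      simp only [Finset.sum_mul]
      rw [Finset.sum_comm]
      refine Finset.sum_congr rfl fun ξ hξ => ?_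
      rw [hb ξ (Finset.mem_filter.1 hξ).2 k hk, Finset.mul_sum]
      refine Finset.sum_congr rfl fun i _ => ?_
      ring
    have hB : ∀ j, B j = 0 := by
      intro j
      have h2 : classInner (fun k : K => (χ : G → ℂ) (x * k)) (Φ j) =
          classInner (∑ i, B i • (u i : K → ℂ)) (Φ j) := by
        rw [classInner_def, classInner_def]
        congr 1
        refine Finset.sum_congr rfl fun k _ => ?_
        by_cases hk : p ∣ orderOf k
        · rw [hsing j k hk, map_zero, mul_zero, mul_zero]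
        · rw [hf k hk, Finset.sum_apply]
          rfl
      rw [hcon j, classInner_sum_left] at h2
      simp only [classInner_smul_left, huΦ] at h2
      rw [Finset.sum_eq_single j] at h2
      · rw [if_pos rfl] at h2
        exact (mul_eq_zero.1 h2.symm).resolve_right (hs j)
      · intro i _ hne
        rw [if_neg hne, mul_zero]
      · intro h; exact absurd (Finset.mem_univ _) h
    have hone : ¬ p ∣ orderOf (1 : K) := by
      rw [orderOf_one]; exact hp.one_lt.ne' ∘ Nat.dvd_one.1
    have h2 := hf 1 hone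
    simp only [hB, zero_mul, Finset.sum_const_zero, Subgroup.coe_one, mul_one] at h2
    exact apply_ne_zero (isIrr_isCharacter χ.2) hd x hx' h2
  -- the double counting
  set S : Finset (IrrCharacter G) := Finset.univ.filter
    (fun χ => χ ∈ principalBlock M G ∧ ¬ p ∣ charDegree (χ : G → ℂ)) with hS
  have hScard : Nat.card {χ : IrrCharacter G // χ ∈ principalBlock M G ∧
      ¬ p ∣ charDegree (χ : G → ℂ)} = S.card := by
    rw [Nat.card_eq_fintype_card, Fintype.card_subtype]
  rw [hScard]
  have h2 : ∀ χ ∈ S, 2 ≤ ((Finset.range (e + 1)).filter (fun j =>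
      classInner (fun k : K => (χ : G → ℂ) (x * k)) (Θ j) ≠ 0)).card := by
    intro χ hχ
    obtain ⟨hχB, hd⟩ := (Finset.mem_filter.1 hχ).2
    obtain ⟨i, hi⟩ := hnv χ hχB hd
    have h3 := two_le_card e (fun j => classInner (fun k : K => (χ : G → ℂ) (x * k)) (Ψ j))
      (by simp only [hΨ0, classInner_zero_right]) (by simp only [hΨe, classInner_zero_right])
      ⟨(i : ℕ) + 1, by omega, by
        show classInner (fun k : K => (χ : G → ℂ) (x * k)) (Ψ ((i : ℕ) + 1)) ≠ 0
        rw [hΨ1 i i.2]; exact hi⟩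
    have h4 : ∀ j, classInner (fun k : K => (χ : G → ℂ) (x * k)) (Θ j) =
        classInner (fun k : K => (χ : G → ℂ) (x * k)) (Ψ (j + 1)) -
          classInner (fun k : K => (χ : G → ℂ) (x * k)) (Ψ j) := fun j => classInner_sub_right _ _ _
    simp only [h4]
    exact h3
  have h3 : 2 * S.card ≤ ∑ j ∈ Finset.range (e + 1), Nat.card {χ : IrrCharacter G //
      classInner (fun k : K => (χ : G → ℂ) (x * k)) (Θ j) ≠ 0} := by
    calc 2 * S.card = ∑ χ ∈ S, 2 := by rw [Finset.sum_const, smul_eq_mul, mul_comm]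
      _ ≤ ∑ χ ∈ S, ((Finset.range (e + 1)).filter (fun j =>
            classInner (fun k : K => (χ : G → ℂ) (x * k)) (Θ j) ≠ 0)).card := Finset.sum_le_sum h2
      _ = ∑ χ ∈ S, ∑ j ∈ Finset.range (e + 1), (if
            classInner (fun k : K => (χ : G → ℂ) (x * k)) (Θ j) ≠ 0 then 1 else 0) := by
          refine Finset.sum_congr rfl fun χ _ => ?_
          rw [Finset.card_filter]
      _ = ∑ j ∈ Finset.range (e + 1), ∑ χ ∈ S, (if
            classInner (fun k : K => (χ : G → ℂ) (x * k)) (Θ j) ≠ 0 then 1 else 0) :=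
          Finset.sum_comm
      _ ≤ ∑ j ∈ Finset.range (e + 1), ∑ χ : IrrCharacter G, (if
            classInner (fun k : K => (χ : G → ℂ) (x * k)) (Θ j) ≠ 0 then 1 else 0) :=
          Finset.sum_le_sum fun j _ => Finset.sum_le_sum_of_subset_of_nonneg
            (Finset.subset_univ _) fun _ _ _ => Nat.zero_le _
      _ = _ := by
          refine Finset.sum_congr rfl fun j _ => ?_
          rw [← Finset.card_filter, Nat.card_eq_fintype_card, Fintype.card_subtype]
  have h4 : ((2 * S.card : ℕ) : ℝ) ≤ p * (2 * e + 2 * m) := by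
    calc ((2 * S.card : ℕ) : ℝ) ≤ ((∑ j ∈ Finset.range (e + 1), Nat.card {χ : IrrCharacter G //
          classInner (fun k : K => (χ : G → ℂ) (x * k)) (Θ j) ≠ 0} : ℕ) : ℝ) := by
          exact_mod_cast h3
      _ = ∑ j ∈ Finset.range (e + 1), (Nat.card {χ : IrrCharacter G //
          classInner (fun k : K => (χ : G → ℂ) (x * k)) (Θ j) ≠ 0} : ℝ) := by push_cast; rfl
      _ ≤ ∑ j ∈ Finset.range (e + 1), p * (classInner (Θ j) (Θ j)).re :=
          Finset.sum_le_sum fun j _ => hb j
      _ = _ := by rw [← Finset.mul_sum, hnorm']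
  have h5 : 2 * S.card ≤ p * (2 * e + 2 * m) := by exact_mod_cast h4
  have h6 : p * (2 * e + 2 * m) ≤ p * (2 * p) := Nat.mul_le_mul_left p (by omega)
  have h7 : p * (2 * p) = 2 * p ^ 2 := by ring
  omega

end Cfsg.Agent.H627.PrincipalCount
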