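import Mathlib.GroupTheory.Abelianization.Defs
import Mathlib.GroupTheory.Index
import Mathlib.GroupTheory.PGroup
import Mathlib.GroupTheory.Commutator.Basic

set_option autoImplicit false
open scoped commutatorElement

/-!
# Abelian quotients and maximal subgroups

If `A` is an abelian normal subgroup of prime index `p` of a finite group `Q` and `y ∉ A`, then
`[Q : Q'] = p * #C_A(y)`.  For a normal subgroup `N` of prime index `p` of a finite group `P` and
`x ∉ N`, `[P : P'] * #N' = p * #{n ∈ N | [x, n] ∈ N'}`.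
-/

namespace Cfsg.Agent.H627.AbIndex

/-- If `y ∉ A` and `A` has prime index, then `A` and `y` generate the group. -/
theorem closure_eq_top {Q : Type*} [Group Q] (p : ℕ) (hp : p.Prime) (A : Subgroup Q) [A.Normal]
    (hA : A.index = p) (y : Q) (hy : y ∉ A) (z : Q) : ∃ (k : ℕ) (a : Q), a ∈ A ∧ z = y ^ k * a := by
  have hcard : Nat.card (Q ⧸ A) = p := hA
  have hfin : Finite (Q ⧸ A) := Nat.finite_of_card_ne_zero (by rw [hcard]; exact hp.ne_zero)
  have : Fact p.Prime := ⟨hp⟩
  have h1 : (QuotientGroup.mk y : Q ⧸ A) ≠ 1 := by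
    rwa [Ne, QuotientGroup.eq_one_iff]
  have h2 : (QuotientGroup.mk z : Q ⧸ A) ∈ Submonoid.powers (QuotientGroup.mk y : Q ⧸ A) :=
    mem_powers_of_prime_card (p := p) hcard h1
  obtain ⟨k, hk⟩ := h2
  refine ⟨k, (y ^ k)⁻¹ * z, ?_, by group⟩
  rw [← QuotientGroup.eq, QuotientGroup.mk_pow]
  exact hk

/-- **Abelian normal subgroup of prime index.**  `[Q : Q'] = p * #C_A(y)` for `y ∉ A`. -/
theorem index_commutator {Q : Type*} [Group Q] [Finite Q] (p : ℕ) (hp : p.Prime) (A : Subgroup Q)
    [A.Normal] (hcomm : ∀ a ∈ A, ∀ b ∈ A, a * b = b * a) (hA : A.index = p) (y : Q) (hy : y ∉ A) :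
    (commutator Q).index = p * Nat.card ↥(A ⊓ Subgroup.centralizer ({y} : Set Q)) := by
  classical
  -- the homomorphism `a ↦ y a y⁻¹ a⁻¹` of `A`
  let ψ : A →* Q :=
    { toFun := fun a => y * a * y⁻¹ * (a : Q)⁻¹
      map_one' := by simp
      map_mul' := by
        intro a b
        have h1 : y * (b : Q) * y⁻¹ ∈ A := Subgroup.Normal.conj_mem inferInstance _ b.2 y
        have h2 := hcomm _ (A.mul_mem h1 (A.inv_mem b.2)) _ (A.inv_mem a.2)
        have h3 : (y * (a * b : Q) * y⁻¹ * (a * b : Q)⁻¹ : Q) =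
            (y * a * y⁻¹) * ((y * b * y⁻¹ * (b : Q)⁻¹) * (a : Q)⁻¹) := by group
        show (y * ((a * b : A) : Q) * y⁻¹ * ((a * b : A) : Q)⁻¹ : Q) = _
        rw [Subgroup.coe_mul, h3, h2]
        group }
  have hψ : ∀ a : A, ψ a = y * a * y⁻¹ * (a : Q)⁻¹ := fun _ => rfl
  have hψA : ∀ a : A, ψ a ∈ A := fun a => A.mul_mem
    (Subgroup.Normal.conj_mem inferInstance _ a.2 y) (A.inv_mem a.2)
  -- the kernel
  have hker : Nat.card ψ.ker = Nat.card ↥(A ⊓ Subgroup.centralizer ({y} : Set Q)) := by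
    refine Nat.card_congr ⟨fun a => ⟨(a : A), (a : A).2, ?_⟩, fun a => ⟨⟨a, a.2.1⟩, ?_⟩, ?_, ?_⟩
    · have h1 : ψ a = 1 := a.2
      rw [hψ, mul_inv_eq_one, mul_inv_eq_iff_eq_mul] at h1
      exact Subgroup.mem_centralizer_singleton_iff.2 h1.symm
    · rw [MonoidHom.mem_ker, hψ, mul_inv_eq_one, mul_inv_eq_iff_eq_mul]
      exact (Subgroup.mem_centralizer_singleton_iff.1 a.2.2).symm
    · intro a; rfl
    · intro a; rfl
  -- the image is the derived subgroup
  have hgen := closure_eq_top p hp A hA y hy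
  have hnorm : ψ.range.Normal := by
    refine ⟨?_⟩
    rintro _ ⟨a, rfl⟩ g
    obtain ⟨k, b, hb, rfl⟩ := hgen g
    have h1 : b * ψ a * b⁻¹ = ψ a := by
      rw [hcomm b hb _ (hψA a)]; group
    have h2 : ∀ k : ℕ, ∀ a : A, ∃ c : A, y ^ k * ψ a * (y ^ k)⁻¹ = ψ c := by
      intro k
      induction k with
      | zero => intro a; exact ⟨a, by simp⟩
      | succ k ih =>
        intro a
        obtain ⟨c, hc⟩ := ih a
        refine ⟨⟨y * c * y⁻¹, Subgroup.Normal.conj_mem inferInstance _ c.2 y⟩, ?_⟩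
        have h3 : y ^ (k + 1) * ψ a * (y ^ (k + 1))⁻¹ = y * (y ^ k * ψ a * (y ^ k)⁻¹) * y⁻¹ := by
          rw [pow_succ']; group
        rw [h3, hc, hψ, hψ]
        group
    obtain ⟨c, hc⟩ := h2 k a
    refine ⟨c, ?_⟩
    rw [← hc]
    calc y ^ k * ψ a * (y ^ k)⁻¹ = y ^ k * (b * ψ a * b⁻¹) * (y ^ k)⁻¹ := by rw [h1]
      _ = y ^ k * b * ψ a * (y ^ k * b)⁻¹ := by group
  have hrange : ψ.range = commutator Q := by
    apply le_antisymm
    · rintro _ ⟨a, rfl⟩
      rw [hψ, commutator_eq_closure]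
      exact Subgroup.subset_closure ⟨y, a, rfl⟩
    · have := hnorm
      have hcommy : ∀ a ∈ A, (QuotientGroup.mk y : Q ⧸ ψ.range) * QuotientGroup.mk a =
          QuotientGroup.mk a * QuotientGroup.mk y := by
        intro a ha
        rw [← mul_inv_eq_iff_eq_mul, ← mul_inv_eq_one, ← QuotientGroup.mk_mul,
          ← QuotientGroup.mk_inv, ← QuotientGroup.mk_mul, ← QuotientGroup.mk_inv,
          ← QuotientGroup.mk_mul, QuotientGroup.eq_one_iff]
        exact ⟨⟨a, ha⟩, rfl⟩
      have hcomma : ∀ a ∈ A, ∀ b ∈ A, (QuotientGroup.mk a : Q ⧸ ψ.range) * QuotientGroup.mk b =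
          QuotientGroup.mk b * QuotientGroup.mk a := by
        intro a ha b hb
        rw [← QuotientGroup.mk_mul, ← QuotientGroup.mk_mul, hcomm a ha b hb]
      have hall : ∀ u v : Q ⧸ ψ.range, u * v = v * u := by
        intro u v
        obtain ⟨u, rfl⟩ := QuotientGroup.mk_surjective u
        obtain ⟨v, rfl⟩ := QuotientGroup.mk_surjective v
        obtain ⟨k, a, ha, rfl⟩ := hgen u
        obtain ⟨l, b, hb, rfl⟩ := hgen v
        have c1 : Commute (QuotientGroup.mk y : Q ⧸ ψ.range) (QuotientGroup.mk a) := hcommy a ha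
        have c2 : Commute (QuotientGroup.mk y : Q ⧸ ψ.range) (QuotientGroup.mk b) := hcommy b hb
        have c3 : Commute (QuotientGroup.mk a : Q ⧸ ψ.range) (QuotientGroup.mk b) := hcomma a ha b hb
        rw [QuotientGroup.mk_mul, QuotientGroup.mk_mul, QuotientGroup.mk_pow, QuotientGroup.mk_pow]
        exact ((((Commute.refl _).pow_pow k l).mul_right (c2.pow_left k)).mul_left
          ((c1.symm.pow_right l).mul_right c3))
      rw [commutator_eq_closure, Subgroup.closure_le]
      rintro _ ⟨u, v, rfl⟩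
      rw [SetLike.mem_coe, ← QuotientGroup.eq_one_iff, commutatorElement_def, QuotientGroup.mk_mul,
        QuotientGroup.mk_mul, QuotientGroup.mk_mul, QuotientGroup.mk_inv, QuotientGroup.mk_inv,
        hall (QuotientGroup.mk u) (QuotientGroup.mk v)]
      group
  -- count
  have h1 : Nat.card ψ.ker * Nat.card ψ.range = Nat.card A := by
    rw [← Subgroup.index_ker ψ]
    exact Subgroup.card_mul_index _
  have h2 : Nat.card A * p = Nat.card Q := by rw [← hA]; exact Subgroup.card_mul_index _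
  have h3 : Nat.card (commutator Q) * (commutator Q).index = Nat.card Q :=
    Subgroup.card_mul_index _
  have h4 : 0 < Nat.card (commutator Q) := Nat.card_pos
  rw [hrange] at h1
  rw [← hker]
  apply Nat.eq_of_mul_eq_mul_left h4
  rw [h3, ← h2, ← h1]
  ring

/-- **Normal subgroup of prime index.**  `[P : P'] * #N' = p * #{n ∈ N | [x, n] ∈ N'}`. -/
theorem index_mul_card {P : Type*} [Group P] [Finite P] (p : ℕ) (hp : p.Prime) (N : Subgroup P)
    [N.Normal] (hN : N.index = p) (x : P) (hx : x ∉ N) :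
    (commutator P).index * Nat.card (commutator N) =
      p * Nat.card {n : N // x * n * x⁻¹ * (n : P)⁻¹ ∈ (commutator N).map N.subtype} := by
  classical
  have hD : (commutator N).map N.subtype = ⁅N, N⁆ := Subgroup.map_subtype_commutator N
  have hDc : Nat.card (commutator N) = Nat.card ↥(⁅N, N⁆ : Subgroup P) := by
    rw [← hD]
    exact (Nat.card_congr
      (Subgroup.equivMapOfInjective _ _ (Subgroup.subtype_injective N)).toEquiv)
  rw [hD, hDc]
  set D : Subgroup P := ⁅N, N⁆ with hDdef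
  have : D.Normal := Subgroup.commutator_normal N N
  have hDN : D ≤ N := Subgroup.commutator_le_right N N
  let π : P →* P ⧸ D := QuotientGroup.mk' D
  have hπ : Function.Surjective π := QuotientGroup.mk'_surjective D
  have hπk : π.ker = D := QuotientGroup.ker_mk' D
  let A : Subgroup (P ⧸ D) := N.map π
  have : A.Normal := Subgroup.Normal.map inferInstance π hπ
  have hcA : A.comap π = N := by
    show (N.map π).comap π = N
    rw [Subgroup.comap_map_eq, hπk, sup_eq_left.2 hDN]
  have hAi : A.index = p := by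
    rw [← hN, ← hcA, Subgroup.index_comap_of_surjective A hπ]
  have hAc : ∀ a ∈ A, ∀ b ∈ A, a * b = b * a := by
    rintro _ ⟨a, ha, rfl⟩ _ ⟨b, hb, rfl⟩
    rw [← map_mul, ← map_mul]
    rw [← mul_inv_eq_one, ← map_inv, ← map_mul, ← MonoidHom.mem_ker, hπk]
    have h1 := Subgroup.commutator_mem_commutator (H₁ := N) (H₂ := N) ha hb
    have h2 : a * b * (b * a)⁻¹ = ⁅a, b⁆ := by rw [commutatorElement_def]; group
    rw [h2]
    exact h1
  have hxA : π x ∉ A := by
    intro h
    apply hx
    rw [← hcA]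
    exact h
  have key := index_commutator p hp A hAc hAi (π x) hxA
  -- compare derived indices
  have hle : D ≤ commutator P := by
    rw [hDdef, commutator_def P]
    exact Subgroup.commutator_mono le_top le_top
  have h1 : (commutator (P ⧸ D)).comap π = commutator P := by
    have h2 : (commutator P).map π = commutator (P ⧸ D) := by
      rw [commutator_def P, Subgroup.map_commutator, ← MonoidHom.range_eq_map,
        MonoidHom.range_eq_top.2 hπ, ← commutator_def]
    rw [← h2, Subgroup.comap_map_eq, hπk, sup_eq_left.2 hle]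
  have h2 : (commutator (P ⧸ D)).index = (commutator P).index := by
    rw [← h1, Subgroup.index_comap_of_surjective _ hπ]
  rw [← h2, key]
  -- the preimage of the centralizer
  let K : Subgroup P := (A ⊓ Subgroup.centralizer ({π x} : Set (P ⧸ D))).comap π
  have hK : Nat.card {n : N // x * n * x⁻¹ * (n : P)⁻¹ ∈ D} = Nat.card K := by
    have hmem : ∀ n : P, n ∈ K ↔ n ∈ N ∧ x * n * x⁻¹ * n⁻¹ ∈ D := by
      intro n
      have h3 : n ∈ K ↔ π n ∈ A ∧ π n ∈ Subgroup.centralizer ({π x} : Set (P ⧸ D)) := Iff.rfl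
      rw [h3, Subgroup.mem_centralizer_singleton_iff]
      have h4 : π n ∈ A ↔ n ∈ N := by
        rw [← Subgroup.mem_comap, hcA]
      have h6 : ∀ g : P, g ∈ D ↔ π g = 1 := fun g =>
        (QuotientGroup.eq_one_iff (N := D) g).symm
      have h5 : (π n * π x = π x * π n) ↔ x * n * x⁻¹ * n⁻¹ ∈ D := by
        rw [h6, map_mul, map_mul, map_mul, map_inv, map_inv, mul_inv_eq_one,
          mul_inv_eq_iff_eq_mul]
        exact eq_comm
      rw [h4, h5]
    refine Nat.card_congr ⟨fun n => ⟨(n : N), (hmem _).2 ⟨(n : N).2, n.2⟩⟩,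
      fun n => ⟨⟨n, ((hmem _).1 n.2).1⟩, ((hmem _).1 n.2).2⟩, ?_, ?_⟩
    · intro a; rfl
    · intro a; rfl
  rw [hK]
  have h3 : K.index = (A ⊓ Subgroup.centralizer ({π x} : Set (P ⧸ D))).index :=
    Subgroup.index_comap_of_surjective _ hπ
  have h4 := Subgroup.card_mul_index K
  have h5 := Subgroup.card_mul_index (A ⊓ Subgroup.centralizer ({π x} : Set (P ⧸ D)))
  have h6 := Subgroup.card_mul_index D
  have h7 : D.index = Nat.card (P ⧸ D) := rfl
  rw [h3] at h4
  rw [h7] at h6
  have h8 : 0 < (A ⊓ Subgroup.centralizer ({π x} : Set (P ⧸ D))).index :=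
    Nat.pos_of_ne_zero Subgroup.index_ne_zero_of_finite
  have h9 : Nat.card K = Nat.card ↥(A ⊓ Subgroup.centralizer ({π x} : Set (P ⧸ D))) * Nat.card D := by
    apply Nat.eq_of_mul_eq_mul_right h8
    rw [h4, ← h6, ← h5]
    ring
  rw [h9]
  ring

end Cfsg.Agent.H627.AbIndex
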