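import Cfsg.Agent.H955.FSBase
import Cfsg.Agent.H955.FSPlane
import Cfsg.Agent.H955.FSSplit

/-!
# Pieces of the step `T0` (S4940, S4972, S4973)

* `T0_one`: the planes;
* `exists_inv_of_eigen`: reality of `g` if an element `c` commuting with `g` satisfies
  `c + c⁻¹ = τ ≠ 0` and `X² + τ X + 1` has a root in `F`;
* `exists_split`: if the minimal polynomial of `x = c + c⁻¹` is not irreducible then `V` splits.
-/

set_option autoImplicit false

namespace Cfsg.Agent.H627.FSZero

open Cfsg QuadraticMap Cfsg.Agent.H955.FS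
open Cfsg.Agent.LieClassical.OrthCore

universe u

theorem T0_one : T0.{u} 1 := by
  intro F V _ _ _ _ _ _ Q hQ hd
  have : Finite V := Module.finite_of_finite F
  have : Finite (V ≃ₗ[F] V) := Finite.of_injective (fun g : V ≃ₗ[F] V => (g : V → V)) DFunLike.coe_injective
  obtain ⟨C, hC, hodd, hsq, ⟨g, hg, hgC⟩, -⟩ := plane_compl Q hQ (by rw [hd])
  have h1 : Odd (Nat.card (C.subgroupOf (O Q))) := by
    rw [Nat.card_congr (Subgroup.subgroupOfEquivOfLe hC).toEquiv]
    exact hodd
  refine (fsGood_of_compl (C.subgroupOf (O Q)) h1 ?_).mono ?_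
  · intro x hx
    apply Subtype.ext
    exact hsq x x.2 fun h => hx (Subgroup.mem_subgroupOf.2 h)
  · intro h
    apply hgC
    have : (⟨g, hg⟩ : O Q) ∈ C.subgroupOf (O Q) := by rw [h]; trivial
    exact Subgroup.mem_subgroupOf.1 this

section Eigen

variable {F V : Type u} [Field F] [AddCommGroup V] [Module F V]

/-- the eigenspace as a submodule -/
def eig (c : V ≃ₗ[F] V) (lam : F) : Submodule F V where
  carrier := {v | c v = lam • v}
  add_mem' {a b} ha hb := by
    show c (a + b) = _
    rw [map_add, ha, hb, smul_add]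
  zero_mem' := by
    show c 0 = _
    rw [map_zero, smul_zero]
  smul_mem' a v hv := by
    show c (a • v) = _
    rw [map_smul, hv, smul_comm]

theorem mem_eig {c : V ≃ₗ[F] V} {lam : F} {v : V} : v ∈ eig c lam ↔ c v = lam • v := Iff.rfl

theorem isCompl_eig {c : V ≃ₗ[F] V} {lam mu : F} (hne : lam ≠ mu)
    (h : ∀ v, c (c v) = (lam + mu) • c v - (lam * mu) • v) : IsCompl (eig c lam) (eig c mu) := by
  have hsub : lam - mu ≠ 0 := sub_ne_zero.2 hne
  refine ⟨?_, ?_⟩
  · rw [Submodule.disjoint_def]
    intro v h1 h2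
    have h3 : (lam - mu) • v = 0 := by
      rw [sub_smul, ← mem_eig.1 h1, ← mem_eig.1 h2, sub_self]
    exact (smul_eq_zero.1 h3).resolve_left hsub
  · rw [codisjoint_iff, eq_top_iff]
    intro v _
    have h1 : c v - mu • v ∈ eig c lam := by
      rw [mem_eig, map_sub, map_smul, h]
      module
    have h2 : c v - lam • v ∈ eig c mu := by
      rw [mem_eig, map_sub, map_smul, h]
      module
    have h3 : v = (lam - mu)⁻¹ • (c v - mu • v) + -((lam - mu)⁻¹ • (c v - lam • v)) := by
      have h4 : (lam - mu)⁻¹ • (c v - mu • v) + -((lam - mu)⁻¹ • (c v - lam • v)) =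
          ((lam - mu)⁻¹ * (lam - mu)) • v := by
        module
      rw [h4, inv_mul_cancel₀ hsub, one_smul]
    rw [h3]
    exact Submodule.add_mem_sup (Submodule.smul_mem _ _ h1) (Submodule.neg_mem _ (Submodule.smul_mem _ _ h2))

/-- reality, eigenvalue case -/
theorem exists_inv_of_eigen [CharP F 2] [FiniteDimensional F V] {Q : QuadraticForm F V} (hQ : Nondeg Q)
    {g c : V ≃ₗ[F] V} (hg : g ∈ O Q) (hc : c ∈ O Q) (hgc : g * c = c * g) {τ lam : F} (hτ : τ ≠ 0)
    (hcc : ∀ v, c v + c.symm v = τ • v) (hlam : lam * lam + τ * lam + 1 = 0) :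
    ∃ h ∈ O Q, h * g * h⁻¹ = g⁻¹ := by
  have hl0 : lam ≠ 0 := by
    rintro rfl
    rw [mul_zero, mul_zero, zero_add, zero_add] at hlam
    exact one_ne_zero hlam
  have h2 : ∀ a : F, a + a = 0 := fun a => CharTwo.add_self_eq_zero a
  have hτ' : τ = lam + lam⁻¹ := by
    have h3 : τ * lam = lam * lam + 1 := by
      have h4 : lam * lam + τ * lam + 1 + (lam * lam + 1) = lam * lam + 1 := by rw [hlam, zero_add]
      have h5 : lam * lam + τ * lam + 1 + (lam * lam + 1) = τ * lam := by
        have : lam * lam + τ * lam + 1 + (lam * lam + 1) = τ * lam + ((lam * lam + lam * lam) + (1 + 1)) := by ring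
        rw [this, h2, h2, add_zero, add_zero]
      rw [← h5, h4]
    field_simp
    rw [h3, pow_two]
  have hne : lam ≠ lam⁻¹ := by
    intro h
    apply hτ
    rw [hτ', ← h, h2]
  have hquad : ∀ v, c (c v) = (lam + lam⁻¹) • c v - (lam * lam⁻¹) • v := by
    intro v
    have h3 := hcc (c v)
    rw [LinearEquiv.symm_apply_apply] at h3
    rw [← hτ', mul_inv_cancel₀ hl0, one_smul, ← h3, add_sub_cancel_right]
  have hsing : ∀ μ : F, μ * μ ≠ 1 → ∀ w ∈ eig c μ, Q w = 0 := by
    intro μ hμ w hw
    have h3 : Q w = (μ * μ) * Q w := by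
      conv_lhs => rw [← mem_O.1 hc w, mem_eig.1 hw]
      rw [QuadraticMap.map_smul, smul_eq_mul]
    have h4 : (μ * μ - 1) * Q w = 0 := by
      rw [sub_mul, one_mul, ← h3, sub_self]
    exact (mul_eq_zero.1 h4).resolve_left (sub_ne_zero.2 hμ)
  have hl1 : lam * lam ≠ 1 := fun h => hne (eq_inv_of_mul_eq_one_left h)
  have hl2 : lam⁻¹ * lam⁻¹ ≠ 1 := by
    intro h
    apply hl1
    rw [← mul_inv] at h
    exact inv_eq_one.1 h
  have hinv : ∀ μ : F, ∀ w ∈ eig c μ, g w ∈ eig c μ := by
    intro μ w hw
    have h3 : c (g w) = g (c w) := by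
      have := congrArg (fun f : V ≃ₗ[F] V => f w) hgc
      exact this.symm
    rw [mem_eig, h3, mem_eig.1 hw, map_smul]
  obtain ⟨h, hh, h3, -⟩ := isConj_inv_split Q hQ hg (eig c lam) (eig c lam⁻¹) (isCompl_eig hne hquad)
    (hsing _ hl1) (hsing _ hl2) (hinv _) (hinv _)
  exact ⟨h, hh, h3⟩

end Eigen

section Split

open Polynomial

variable {F V : Type u} [Field F] [AddCommGroup V] [Module F V]

theorem aeval_selfadj {Q : QuadraticForm F V} {x : Module.End F V}
    (hself : ∀ v w, polar Q (x v) w = polar Q v (x w)) (a : F[X]) (v w : V) :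
    polar Q (aeval x a v) w = polar Q v (aeval x a w) := by
  have hpow : ∀ (n : ℕ) (v w : V), polar Q ((x ^ n) v) w = polar Q v ((x ^ n) w) := by
    intro n
    induction n with
    | zero => intro v w; rfl
    | succ n ih =>
      intro v w
      rw [pow_succ, Module.End.mul_apply, ih, hself, ← Module.End.mul_apply, ← pow_succ', ← pow_succ]
  induction a using Polynomial.induction_on' generalizing v w with
  | add p q hp hq => simp only [map_add, LinearMap.add_apply, polar_add_left, polar_add_right, hp, hq]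
  | monomial n a =>
    simp only [aeval_monomial, Module.End.mul_apply, Module.algebraMap_end_apply, polar_smul_left,
      polar_smul_right, hpow]

/-- **(T0-red)** -/
theorem exists_split [CharP F 2] [FiniteDimensional F V] [Nontrivial V] {Q : QuadraticForm F V}
    {c : V ≃ₗ[F] V} (hodd : Odd (orderOf c)) (x : Module.End F V) (hx : ∀ v, x v = c v + c.symm v)
    (hc : c ∈ O Q) (hirr : ¬ Irreducible (minpoly F x)) :
    ∃ U U' : Submodule F V, IsCompl U U' ∧ U ≠ ⊥ ∧ U' ≠ ⊥ ∧ (∀ u ∈ U, ∀ w ∈ U', polar Q u w = 0) ∧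
      ∀ g : V ≃ₗ[F] V, (∀ v, g (x v) = x (g v)) → (∀ u ∈ U, g u ∈ U) ∧ (∀ u ∈ U', g u ∈ U') := by
  have hself : ∀ v w, polar Q (x v) w = polar Q v (x w) := by
    intro v w
    have h1 : polar Q (c v) w = polar Q v (c.symm w) := by
      have := polar_map hc v (c.symm w)
      rwa [LinearEquiv.apply_symm_apply] at this
    have h2 : polar Q (c.symm v) w = polar Q v (c w) := by
      have := polar_map hc (c.symm v) w
      rw [LinearEquiv.apply_symm_apply] at this
      exact this.symm
    rw [hx, hx, polar_add_left, polar_add_right, h1, h2, add_comm]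
  -- `c` is semisimple
  have hm : 0 < orderOf c := hodd.pos
  let f : Module.End F V := c.toLinearMap
  have hf : ∀ (n : ℕ), f ^ n = (c ^ n).toLinearMap := by
    intro n
    induction n with
    | zero => rfl
    | succ n ih => rw [pow_succ, pow_succ, ih]; rfl
  have hsf : Squarefree (X ^ orderOf c - 1 : F[X]) := by
    apply Polynomial.Separable.squarefree
    apply Polynomial.X_pow_sub_one_separable_iff.2
    intro h
    rw [CharP.cast_eq_zero_iff F 2] at h
    exact (Nat.not_even_iff_odd.2 hodd) (even_iff_two_dvd.2 h)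
  have hss : f.IsSemisimple := by
    refine Module.End.isSemisimple_of_squarefree_aeval_eq_zero hsf ?_
    rw [map_sub, map_pow, aeval_X, map_one, hf, pow_orderOf_eq_one]
    exact sub_self _
  have hxf : x = aeval f (X + X ^ (orderOf c - 1) : F[X]) := by
    apply LinearMap.ext
    intro v
    rw [hx, map_add, map_pow, aeval_X, LinearMap.add_apply, hf]
    congr 1
    have : c⁻¹ = c ^ (orderOf c - 1) := by
      rw [inv_eq_iff_mul_eq_one, ← pow_succ', Nat.sub_add_cancel hm, pow_orderOf_eq_one]
    rw [← this]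
    rfl
  have hxss : x.IsSemisimple := by
    rw [hxf]
    exact hss.aeval _
  have hsqf : Squarefree (minpoly F x) := hxss.minpoly_squarefree
  have hint : IsIntegral F x := Algebra.IsIntegral.isIntegral x
  obtain ⟨p, hp, q, hpq⟩ := WfDvdMonoid.exists_irreducible_factor (minpoly.not_isUnit F x) (minpoly.ne_zero hint)
  have hq : ¬ IsUnit q := by
    intro hq
    apply hirr
    rw [hpq]
    exact (irreducible_mul_isUnit hq).2 hp
  have hcop : IsCoprime p q := by
    rw [hpq] at hsqf
    exact (squarefree_mul_iff.1 hsqf).1.isCoprime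
  obtain ⟨a, b, hab⟩ := hcop
  have hpq0 : ∀ v, aeval x p (aeval x q v) = 0 := by
    intro v
    rw [← Module.End.mul_apply, ← map_mul, ← hpq, minpoly.aeval, LinearMap.zero_apply]
  have hqp0 : ∀ v, aeval x q (aeval x p v) = 0 := by
    intro v
    rw [← Module.End.mul_apply, ← map_mul, mul_comm, ← hpq, minpoly.aeval, LinearMap.zero_apply]
  have hdec : ∀ v, v = aeval x a (aeval x p v) + aeval x b (aeval x q v) := by
    intro v
    rw [← Module.End.mul_apply, ← Module.End.mul_apply, ← map_mul, ← map_mul, ← LinearMap.add_apply,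
      ← map_add, hab, map_one, Module.End.one_apply]
  have hcomm : ∀ (r s : F[X]) (v : V), aeval x r (aeval x s v) = aeval x s (aeval x r v) := by
    intro r s v
    rw [← Module.End.mul_apply, ← Module.End.mul_apply, ← map_mul, ← map_mul, mul_comm]
  refine ⟨LinearMap.ker (aeval x p), LinearMap.ker (aeval x q), ⟨?_, ?_⟩, ?_, ?_, ?_, ?_⟩
  · rw [Submodule.disjoint_def]
    intro v h1 h2
    rw [hdec v, LinearMap.mem_ker.1 h1, LinearMap.mem_ker.1 h2, map_zero, map_zero, add_zero]
  · rw [codisjoint_iff, eq_top_iff]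
    intro v _
    rw [hdec v, add_comm]
    refine Submodule.add_mem_sup ?_ ?_
    · rw [LinearMap.mem_ker, hcomm, hpq0, map_zero]
    · rw [LinearMap.mem_ker, hcomm, hqp0, map_zero]
  · intro h
    have h1 : aeval x q = 0 := by
      apply LinearMap.ext
      intro v
      have h2 := hpq0 v
      rw [← LinearMap.mem_ker, h, Submodule.mem_bot] at h2
      exact h2
    have h3 := minpoly.dvd F x h1
    rw [hpq] at h3
    have hq0 : q ≠ 0 := by
      rintro rfl
      exact minpoly.ne_zero hint (by rw [hpq, mul_zero])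
    obtain ⟨r, hr⟩ := h3
    apply hp.not_isUnit
    apply IsUnit.of_mul_eq_one r
    apply mul_right_cancel₀ hq0
    rw [one_mul]
    conv_rhs => rw [hr]
    ring
  · intro h
    have h1 : aeval x p = 0 := by
      apply LinearMap.ext
      intro v
      have h2 := hqp0 v
      rw [← LinearMap.mem_ker, h, Submodule.mem_bot] at h2
      exact h2
    have h3 := minpoly.dvd F x h1
    rw [hpq] at h3
    have hp0 : p ≠ 0 := hp.ne_zero
    obtain ⟨r, hr⟩ := h3
    apply hq
    apply IsUnit.of_mul_eq_one r
    apply mul_left_cancel₀ hp0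
    rw [mul_one]
    conv_rhs => rw [hr]
    ring
  · intro u hu w hw
    rw [LinearMap.mem_ker] at hu hw
    have h1 : w = aeval x p (aeval x a w) := by
      conv_lhs => rw [hdec w, hw, map_zero, add_zero, hcomm]
    rw [h1, ← aeval_selfadj hself, hu, polar_zero_left]
  · intro g hg
    have hpowg : ∀ (n : ℕ) (v : V), g ((x ^ n) v) = (x ^ n) (g v) := by
      intro n
      induction n with
      | zero => intro v; rfl
      | succ n ih =>
        intro v
        rw [pow_succ', Module.End.mul_apply, Module.End.mul_apply, hg, ih]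
    have hag : ∀ (a : F[X]) (v : V), g (aeval x a v) = aeval x a (g v) := by
      intro a v
      induction a using Polynomial.induction_on' with
      | add p q hp hq => simp only [map_add, LinearMap.add_apply, hp, hq]
      | monomial n a =>
        simp only [aeval_monomial, Module.End.mul_apply, Module.algebraMap_end_apply, map_smul, hpowg]
    refine ⟨fun u hu => ?_, fun u hu => ?_⟩
    · rw [LinearMap.mem_ker] at hu ⊢
      rw [← hag, hu, map_zero]
    · rw [LinearMap.mem_ker] at hu ⊢
      rw [← hag, hu, map_zero]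

end Split

end Cfsg.Agent.H627.FSZero
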