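import Mathlib
import Cfsg.Prelude.Def_Solvable
import Cfsg.Agent.Lib.Cores
import Cfsg.Agent.Lib.FrattiniPGroup
import Cfsg.Agent.Lib.SylowNormalInf
import Cfsg.Agent.Transfer.TateComplement
import Cfsg.Agent.Blocks.CentralSylow
import Cfsg.Agent.H627.AbIndex
import Cfsg.Agent.H627.LocalStructure

/-!
# Sylow subgroups with derived subgroup of index `p²`: general lemmas
-/

set_option autoImplicit false
open scoped commutatorElement

namespace Cfsg.Agent.H627.TateIndex

variable {G : Type*} [Group G]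

theorem commutator_map_subtype (P : Subgroup G) : (commutator P).map P.subtype = ⁅P, P⁆ :=
  Subgroup.map_subtype_commutator P

/-- **Tate's theorem**, in the form: if `N ∩ P ≤ P'` then the `p`-regular elements of `N` form a
subgroup. -/
theorem exists_regular_subgroup [Finite G] {p : ℕ} [Fact p.Prime] (P : Sylow p G) (N : Subgroup G)
    [N.Normal] (h : N ⊓ (P : Subgroup G) ≤ ⁅(P : Subgroup G), (P : Subgroup G)⁆) :
    ∃ K : Subgroup G, ∀ g, g ∈ K ↔ g ∈ N ∧ ¬ p ∣ orderOf g := by
  have hp : p.Prime := Fact.out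
  have h1 : ⁅(P : Subgroup G), (P : Subgroup G)⁆ ≤
      (frattini P).map (P : Subgroup G).subtype := by
    rw [← commutator_map_subtype]
    exact Subgroup.map_mono (Cfsg.Agent.Lib.FrattiniPGroup.commutator_le_frattini P.2)
  obtain ⟨K, hKn, hKN, hKc⟩ :=
    Cfsg.Agent.Transfer.TateComplement.exists_complement_of_inf_le_frattini P N (h.trans h1)
  obtain ⟨n, hn⟩ := IsPGroup.iff_card.1 (P.subtype (le_sup_right : (P : Subgroup G) ≤ N ⊔ P)).2
  have hKi : K.index = p ^ n := by
    rw [hKc.symm.index_eq_card]; exact hn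
  have hcop : (Nat.card K).Coprime p := by
    have h2 := hKc.card_mul_card
    have h3 := Subgroup.card_mul_index
      (P.subtype (le_sup_right : (P : Subgroup G) ≤ N ⊔ P)).toSubgroup
    have h4 : Nat.card K =
        (P.subtype (le_sup_right : (P : Subgroup G) ≤ N ⊔ P)).toSubgroup.index := by
      rw [← h2, mul_comm] at h3
      exact (Nat.eq_of_mul_eq_mul_right Nat.card_pos h3).symm
    rw [h4]
    exact ((Nat.Prime.coprime_iff_not_dvd hp).2
      (P.subtype (le_sup_right : (P : Subgroup G) ≤ N ⊔ P)).not_dvd_index).symm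
  have hmem := Cfsg.Agent.Blocks.CentralSylow.mem_iff_of_index hp K hKi hcop
  refine ⟨K.map (N ⊔ (P : Subgroup G)).subtype, fun g => ?_⟩
  constructor
  · rintro ⟨k, hk, rfl⟩
    refine ⟨Subgroup.mem_subgroupOf.1 (hKN hk), ?_⟩
    have h2 := (hmem k).1 hk
    rwa [← Subgroup.orderOf_coe] at h2
  · rintro ⟨hg, hg'⟩
    refine ⟨⟨g, Subgroup.mem_sup_left hg⟩, ?_, rfl⟩
    refine (hmem _).2 ?_
    rwa [← Subgroup.orderOf_coe]

/-- The same for a subgroup normalised by `P`. -/
theorem exists_regular_subgroup' [Finite G] {p : ℕ} [Fact p.Prime] (P : Sylow p G)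
    (A : Subgroup G) (hPA : (P : Subgroup G) ≤ Subgroup.normalizer (A : Set G))
    (h : A ⊓ (P : Subgroup G) ≤ ⁅(P : Subgroup G), (P : Subgroup G)⁆) :
    ∃ K : Subgroup G, ∀ g, g ∈ K ↔ g ∈ A ∧ ¬ p ∣ orderOf g := by
  set H := Subgroup.normalizer (A : Set G) with hH
  have hAH : A ≤ H := Subgroup.le_normalizer
  have hn : (A.subgroupOf H).Normal := Subgroup.normal_in_normalizer
  have hPm : ((P.subtype hPA : Sylow p H) : Subgroup H).map H.subtype = (P : Subgroup G) := by
    show ((P : Subgroup G).subgroupOf H).map H.subtype = (P : Subgroup G)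
    rw [Subgroup.subgroupOf_map_subtype, inf_eq_left.2 hPA]
  have h1 : A.subgroupOf H ⊓ ((P.subtype hPA : Sylow p H) : Subgroup H) ≤
      ⁅((P.subtype hPA : Sylow p H) : Subgroup H), ((P.subtype hPA : Sylow p H) : Subgroup H)⁆ := by
    rintro y ⟨hy1, hy2⟩
    have h2 : (y : G) ∈ ⁅(P : Subgroup G), (P : Subgroup G)⁆ := h ⟨hy1, hy2⟩
    rw [← hPm, ← Subgroup.map_commutator] at h2
    obtain ⟨z, hz, hzy⟩ := h2
    have h3 : z = y := Subtype.ext hzy
    rw [← h3]
    exact hz
  obtain ⟨K, hK⟩ := exists_regular_subgroup (P.subtype hPA : Sylow p H) (A.subgroupOf H) h1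
  refine ⟨K.map H.subtype, fun g => ?_⟩
  constructor
  · rintro ⟨k, hk, rfl⟩
    have h2 := (hK k).1 hk
    exact ⟨h2.1, by rw [Subgroup.coe_subtype, Subgroup.orderOf_coe]; exact h2.2⟩
  · rintro ⟨hg, hg'⟩
    refine ⟨⟨g, hAH hg⟩, ?_, rfl⟩
    refine (hK _).2 ⟨hg, ?_⟩
    rwa [← Subgroup.orderOf_coe]

/-- A finite `p`-group `Q` with `[Q : Q'] ∣ p` has order dividing `p`. -/
theorem card_dvd_of_index {Q : Type*} [Group Q] [Finite Q] {p : ℕ} [Fact p.Prime]
    (hQ : IsPGroup p Q) (h : (commutator Q).index ∣ p) : Nat.card Q ∣ p := by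
  have hp : p.Prime := Fact.out
  have hfr := Cfsg.Agent.Lib.FrattiniPGroup.commutator_le_frattini hQ
  rcases (Nat.dvd_prime hp).1 h with h1 | h1
  · have h2 : commutator Q = ⊤ := Subgroup.index_eq_one.1 h1
    have h3 : (⊥ : Subgroup Q) ⊔ frattini Q = ⊤ := by
      rw [bot_sup_eq]
      exact top_le_iff.1 (h2 ▸ hfr)
    have h4 : (⊥ : Subgroup Q) = ⊤ := frattini_nongenerating h3
    have h5 : Nat.card Q = 1 := by
      rw [← Subgroup.card_top, ← h4, Subgroup.card_bot]
    rw [h5]
    exact one_dvd p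
  · obtain ⟨x, hx⟩ : ∃ x, x ∉ commutator Q := by
      by_contra hcon
      push Not at hcon
      have h2 : commutator Q = ⊤ := eq_top_iff.2 fun x _ => hcon x
      rw [h2, Subgroup.index_top] at h1
      exact hp.one_lt.ne h1
    have h2 : Subgroup.zpowers x ⊔ commutator Q = ⊤ := by
      set J := Subgroup.zpowers x ⊔ commutator Q with hJ
      have hle : commutator Q ≤ J := le_sup_right
      have h3 := Subgroup.relIndex_mul_index hle
      rw [h1] at h3
      have h4 : J.index ∣ p := Dvd.intro_left _ h3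
      rcases (Nat.dvd_prime hp).1 h4 with h5 | h5
      · exact Subgroup.index_eq_one.1 h5
      · exfalso
        rw [h5] at h3
        have h6 : (commutator Q).relIndex J = 1 := by
          have : (commutator Q).relIndex J * p = 1 * p := by rw [h3, one_mul]
          exact Nat.eq_of_mul_eq_mul_right hp.pos this
        rw [Subgroup.relIndex_eq_one] at h6
        exact hx (h6 (Subgroup.mem_sup_left (Subgroup.mem_zpowers x)))
    have h3 : Subgroup.zpowers x ⊔ frattini Q = ⊤ := by
      rw [eq_top_iff, ← h2]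
      exact sup_le_sup_left hfr _
    have h4 : Subgroup.zpowers x = ⊤ := frattini_nongenerating h3
    have h5 : ∀ a b : Q, a * b = b * a := by
      intro a b
      have ha : a ∈ Subgroup.zpowers x := by rw [h4]; trivial
      have hb : b ∈ Subgroup.zpowers x := by rw [h4]; trivial
      obtain ⟨i, rfl⟩ := Subgroup.mem_zpowers_iff.1 ha
      obtain ⟨j, rfl⟩ := Subgroup.mem_zpowers_iff.1 hb
      exact ((Commute.refl x).zpow_zpow i j).eq
    have h6 : commutator Q = ⊥ := by
      rw [eq_bot_iff, commutator_eq_closure, Subgroup.closure_le]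
      rintro _ ⟨a, b, rfl⟩
      rw [SetLike.mem_coe, Subgroup.mem_bot, commutatorElement_eq_one_iff_mul_comm]
      exact h5 a b
    rw [h6, Subgroup.index_bot] at h1
    rw [h1]

/-- A normal subgroup not contained in the derived subgroup, of index `p²`, has index `1` or `p`. -/
theorem index_dvd {P : Type*} [Group P] [Finite P] {p : ℕ} [Fact p.Prime] (hP : IsPGroup p P)
    (R : Subgroup P) [R.Normal] (h2 : (commutator P).index = p ^ 2) (hR : ¬ R ≤ commutator P) :
    R.index ∣ p := by
  have hp : p.Prime := Fact.out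
  have hsurj : Function.Surjective (QuotientGroup.mk' R) := QuotientGroup.mk'_surjective R
  have hmap : commutator (P ⧸ R) = (commutator P).map (QuotientGroup.mk' R) := by
    rw [commutator_def P, Subgroup.map_commutator, ← MonoidHom.range_eq_map,
      MonoidHom.range_eq_top.2 hsurj, ← commutator_def]
  have hidx : (commutator (P ⧸ R)).index = (commutator P ⊔ R).index := by
    rw [← Subgroup.index_comap_of_surjective _ hsurj, hmap, Subgroup.comap_map_eq,
      QuotientGroup.ker_mk']
  have hle : commutator P ≤ commutator P ⊔ R := le_sup_left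
  have h3 := Subgroup.relIndex_mul_index hle
  rw [h2] at h3
  have h4 : (commutator P ⊔ R).index ∣ p ^ 2 := Dvd.intro_left _ h3
  obtain ⟨i, hi, hi'⟩ := (Nat.dvd_prime_pow hp).1 h4
  have h5 : (commutator (P ⧸ R)).index ∣ p := by
    rw [hidx, hi']
    have h6 : i ≤ 1 := by
      by_contra h7
      have h8 : i = 2 := by omega
      rw [hi', h8] at h3
      have h9 : (commutator P).relIndex (commutator P ⊔ R) = 1 := by
        have : (commutator P).relIndex (commutator P ⊔ R) * p ^ 2 = 1 * p ^ 2 := by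
          rw [h3, one_mul]
        exact Nat.eq_of_mul_eq_mul_right (pow_pos hp.pos 2) this
      rw [Subgroup.relIndex_eq_one] at h9
      exact hR (le_sup_right.trans h9)
    interval_cases i
    · rw [pow_zero]; exact one_dvd p
    · rw [pow_one]
  have h6 : IsPGroup p (P ⧸ R) := hP.to_quotient R
  exact card_dvd_of_index h6 h5

/-- Two subgroups of index dividing `p` with trivial intersection. -/
theorem card_le_sq {P : Type*} [Group P] [Finite P] {p : ℕ} (hp : p.Prime) (R S : Subgroup P)
    (hRS : R ⊓ S = ⊥) (hR : R.index ∣ p) (hS : S.index ∣ p) : Nat.card P ≤ p ^ 2 := by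
  have h1 : (R ⊓ S).index ≤ R.index * S.index := Subgroup.index_inf_le
  rw [hRS, Subgroup.index_bot] at h1
  calc Nat.card P ≤ R.index * S.index := h1
    _ ≤ p * p := Nat.mul_le_mul (Nat.le_of_dvd hp.pos hR) (Nat.le_of_dvd hp.pos hS)
    _ = p ^ 2 := (sq p).symm

/-- A `p`-element has a fully centralized conjugate in `P`. -/
theorem exists_fully_centralized [Finite G] {p : ℕ} [Fact p.Prime] (P : Sylow p G) (x : G)
    (hx : ∃ k : ℕ, orderOf x = p ^ k) : ∃ g : G, g * x * g⁻¹ ∈ (P : Subgroup G) ∧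
      Nat.card ↥((P : Subgroup G) ⊓ Subgroup.centralizer ({g * x * g⁻¹} : Set G)) =
        p ^ (Nat.card (Subgroup.centralizer ({x} : Set G))).factorization p := by
  have hp : p.Prime := Fact.out
  obtain ⟨k, hk⟩ := hx
  set C := Subgroup.centralizer ({x} : Set G) with hC
  obtain ⟨T⟩ : Nonempty (Sylow p C) := inferInstance
  have hxC : x ∈ C := Subgroup.mem_centralizer_singleton_iff.2 rfl
  set z : C := ⟨x, hxC⟩ with hz
  have hzc : z ∈ Subgroup.center C := by
    rw [Subgroup.mem_center_iff]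
    intro g
    exact Subtype.ext (Subgroup.mem_centralizer_singleton_iff.1 g.2)
  have hzc' : Subgroup.zpowers z ≤ Subgroup.center C := by rwa [Subgroup.zpowers_le]
  have hn : (Subgroup.zpowers z).Normal := ⟨fun n hn g => by
    have h1 := Subgroup.mem_center_iff.1 (hzc' hn) g
    rw [h1]; simpa using hn⟩
  have hzp : IsPGroup p (Subgroup.zpowers z) := by
    apply IsPGroup.of_card (n := k)
    rw [Nat.card_zpowers, ← hk, ← Subgroup.orderOf_coe]
  have hzT : z ∈ (T : Subgroup C) :=
    LocalStructure.normal_le_sylow _ hzp T (Subgroup.mem_zpowers z)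
  have hT₁ : IsPGroup p ((T : Subgroup C).map C.subtype) := T.2.map _
  obtain ⟨P₁, hP₁⟩ := hT₁.exists_le_sylow
  obtain ⟨g, hg⟩ := MulAction.exists_smul_eq G P₁ P
  have hconj : ∀ y ∈ (P₁ : Subgroup G), g * y * g⁻¹ ∈ (P : Subgroup G) := by
    intro y hy
    rw [← hg]
    exact Subgroup.smul_mem_pointwise_smul y (MulAut.conj g) (P₁ : Subgroup G) hy
  refine ⟨g, hconj x (hP₁ ⟨z, hzT, rfl⟩), ?_⟩
  set C' := Subgroup.centralizer ({g * x * g⁻¹} : Set G) with hC'
  have hCC' : C.map (MulAut.conj g).toMonoidHom = C' := by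
    ext y
    constructor
    · rintro ⟨c, hc, rfl⟩
      rw [SetLike.mem_coe, hC, Subgroup.mem_centralizer_singleton_iff] at hc
      rw [hC', Subgroup.mem_centralizer_singleton_iff]
      show g * c * g⁻¹ * (g * x * g⁻¹) = g * x * g⁻¹ * (g * c * g⁻¹)
      calc g * c * g⁻¹ * (g * x * g⁻¹) = g * (c * x) * g⁻¹ := by group
        _ = g * (x * c) * g⁻¹ := by rw [hc]
        _ = _ := by group
    · intro hy
      rw [hC', Subgroup.mem_centralizer_singleton_iff] at hy
      refine ⟨g⁻¹ * y * g, ?_, ?_⟩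
      · rw [SetLike.mem_coe, hC, Subgroup.mem_centralizer_singleton_iff]
        calc g⁻¹ * y * g * x = g⁻¹ * (y * (g * x * g⁻¹)) * g := by group
          _ = g⁻¹ * (g * x * g⁻¹ * y) * g := by rw [hy]
          _ = _ := by group
      · show g * (g⁻¹ * y * g) * g⁻¹ = y
        group
  have hcardC : Nat.card C' = Nat.card C := by
    rw [← hCC']
    exact (Nat.card_congr (Subgroup.equivMapOfInjective C _ (MulAut.conj g).injective).toEquiv).symm
  -- lower bound
  have hlow : p ^ (Nat.card C).factorization p ≤ Nat.card ↥((P : Subgroup G) ⊓ C') := by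
    have h1 : ((T : Subgroup C).map C.subtype).map (MulAut.conj g).toMonoidHom ≤
        (P : Subgroup G) ⊓ C' := by
      rintro _ ⟨y, hy, rfl⟩
      refine ⟨hconj y (hP₁ hy), ?_⟩
      rw [← hCC']
      obtain ⟨t, ht, rfl⟩ := hy
      exact ⟨_, t.2, rfl⟩
    have h2 := Subgroup.card_le_of_le h1
    have h3 : Nat.card (((T : Subgroup C).map C.subtype).map (MulAut.conj g).toMonoidHom) =
        Nat.card T := by
      rw [← Nat.card_congr (Subgroup.equivMapOfInjective _ _ (MulAut.conj g).injective).toEquiv]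
      rw [← Nat.card_congr (Subgroup.equivMapOfInjective _ _
        (Subgroup.subtype_injective C)).toEquiv]
    rw [h3, T.card_eq_multiplicity] at h2
    exact h2
  -- upper bound
  have hpg : IsPGroup p ↥((P : Subgroup G) ⊓ C') := P.2.to_le inf_le_left
  obtain ⟨j, hj⟩ := IsPGroup.iff_card.1 hpg
  have hup : j ≤ (Nat.card C).factorization p := by
    rw [← hp.pow_dvd_iff_le_factorization Nat.card_pos.ne', ← hj, ← hcardC]
    exact Subgroup.card_dvd_of_le inf_le_right
  rw [hj] at hlow ⊢
  exact le_antisymm (Nat.pow_le_pow_right hp.pos hup) hlow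

/-- The centralizer of an element of a subgroup. -/
theorem card_inf_centralizer (P : Subgroup G) (x : G) (hx : x ∈ P) :
    Nat.card ↥(P ⊓ Subgroup.centralizer ({x} : Set G)) =
      Nat.card (Subgroup.centralizer ({(⟨x, hx⟩ : P)} : Set P)) := by
  refine Nat.card_congr ⟨fun y => ⟨⟨y, y.2.1⟩, ?_⟩, fun y => ⟨y, y.1.2, ?_⟩, ?_, ?_⟩
  · rw [Subgroup.mem_centralizer_singleton_iff]
    exact Subtype.ext (Subgroup.mem_centralizer_singleton_iff.1 y.2.2)
  · exact Subgroup.mem_centralizer_singleton_iff.2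
      (congrArg Subtype.val (Subgroup.mem_centralizer_singleton_iff.1 y.2))
  · intro y; rfl
  · intro y; rfl

/-- The final step of the direct implication. -/
theorem exists_elt [Finite G] {p : ℕ} [Fact p.Prime] (P : Sylow p G) (N : Subgroup G) [N.Normal]
    (hab : ∀ a ∈ N ⊓ (P : Subgroup G), ∀ b ∈ N ⊓ (P : Subgroup G), a * b = b * a)
    (hidx : (N.subgroupOf (P : Subgroup G)).index = p)
    (h2 : (commutator (P : Subgroup G)).index = p ^ 2) :
    ∃ x : G, (∃ k : ℕ, orderOf x = p ^ k) ∧
      (Nat.card (Subgroup.centralizer ({x} : Set G))).factorization p = 2 := by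
  have hp : p.Prime := Fact.out
  obtain ⟨x₀, hx₀⟩ : ∃ x₀ : (P : Subgroup G), x₀ ∉ N.subgroupOf (P : Subgroup G) := by
    by_contra hcon
    push Not at hcon
    have h3 : N.subgroupOf (P : Subgroup G) = ⊤ := eq_top_iff.2 fun x _ => hcon x
    rw [h3, Subgroup.index_top] at hidx
    exact hp.one_lt.ne hidx
  have hx₀p : ∃ k : ℕ, orderOf (x₀ : G) = p ^ k := by
    obtain ⟨k, hk⟩ := IsPGroup.iff_orderOf.1 P.2 x₀
    exact ⟨k, by rw [Subgroup.orderOf_coe]; exact hk⟩
  obtain ⟨g, hg, hcard⟩ := exists_fully_centralized P (x₀ : G) hx₀p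
  refine ⟨x₀, hx₀p, ?_⟩
  have hgN : g * x₀ * g⁻¹ ∉ N := by
    intro h
    apply hx₀
    have h3 : g⁻¹ * (g * x₀ * g⁻¹) * g⁻¹⁻¹ ∈ N := Subgroup.Normal.conj_mem inferInstance _ h g⁻¹
    have h4 : g⁻¹ * (g * x₀ * g⁻¹) * g⁻¹⁻¹ = (x₀ : G) := by group
    rw [h4] at h3
    exact h3
  set y : (P : Subgroup G) := ⟨g * x₀ * g⁻¹, hg⟩ with hy
  rw [card_inf_centralizer (P : Subgroup G) _ hg] at hcard
  have hyA : y ∉ N.subgroupOf (P : Subgroup G) := hgN
  have h3 := AbIndex.index_commutator p hp (N.subgroupOf (P : Subgroup G))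
    (fun a ha b hb => Subtype.ext (hab a ⟨ha, a.2⟩ b ⟨hb, b.2⟩)) hidx y hyA
  rw [h2] at h3
  have h4 : Nat.card ↥(N.subgroupOf (P : Subgroup G) ⊓ Subgroup.centralizer ({y} : Set P)) = p := by
    apply Nat.eq_of_mul_eq_mul_left hp.pos
    rw [← h3, sq]
  have h5 := Cfsg.Agent.Lib.SylowNormalInf.card_inf_mul_relIndex (N.subgroupOf (P : Subgroup G))
    (Subgroup.centralizer ({y} : Set P))
  have h6 : (N.subgroupOf (P : Subgroup G)).relIndex (Subgroup.centralizer ({y} : Set P)) ∣ p := by
    have h6 := Subgroup.relIndex_dvd_index_of_normal (N.subgroupOf (P : Subgroup G))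
      (Subgroup.centralizer ({y} : Set P))
    rwa [hidx] at h6
  have h7 : (N.subgroupOf (P : Subgroup G)).relIndex (Subgroup.centralizer ({y} : Set P)) = p := by
    rcases (Nat.dvd_prime hp).1 h6 with h7 | h7
    · rw [Subgroup.relIndex_eq_one] at h7
      exact absurd (h7 (Subgroup.mem_centralizer_singleton_iff.2 rfl)) hyA
    · exact h7
  rw [h4, h7] at h5
  rw [← h5, ← sq] at hcard
  exact (Nat.pow_right_injective hp.two_le hcard).symm

/-- The converse implication. -/
theorem index_eq_of_exists [Finite G] {p : ℕ} [Fact p.Prime] (P : Sylow p G)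
    (hbig : p ^ 2 ∣ Nat.card G) (x : G) (hx : ∃ k : ℕ, orderOf x = p ^ k)
    (hc : (Nat.card (Subgroup.centralizer ({x} : Set G))).factorization p = 2) :
    (commutator (P : Subgroup G)).index = p ^ 2 := by
  classical
  have hp : p.Prime := Fact.out
  obtain ⟨g, hg, hcard⟩ := exists_fully_centralized P x hx
  set y : (P : Subgroup G) := ⟨g * x * g⁻¹, hg⟩ with hy
  rw [card_inf_centralizer (P : Subgroup G) _ hg, hc] at hcard
  -- the class of `y` lies in a coset of the derived subgroup
  have h1 : (Subgroup.centralizer ({y} : Set P)).index ≤ Nat.card (commutator (P : Subgroup G)) := by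
    let f : (P : Subgroup G) ⧸ Subgroup.centralizer ({y} : Set P) → commutator (P : Subgroup G) :=
      fun q => Quotient.liftOn' q (fun u => ⟨u * y * u⁻¹ * y⁻¹, by
        rw [commutator_eq_closure]
        exact Subgroup.subset_closure ⟨u, y, rfl⟩⟩) (by
          intro u v huv
          rw [QuotientGroup.leftRel_apply, Subgroup.mem_centralizer_singleton_iff] at huv
          apply Subtype.ext
          show u * y * u⁻¹ * y⁻¹ = v * y * v⁻¹ * y⁻¹
          congr 1
          calc u * y * u⁻¹ = u * (y * (u⁻¹ * v)) * v⁻¹ := by group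
            _ = u * (u⁻¹ * v * y) * v⁻¹ := by rw [huv]
            _ = _ := by group)
    have hf : Function.Injective f := by
      intro a b
      obtain ⟨u, rfl⟩ := QuotientGroup.mk_surjective a
      obtain ⟨v, rfl⟩ := QuotientGroup.mk_surjective b
      intro h
      have h2 : u * y * u⁻¹ * y⁻¹ = v * y * v⁻¹ * y⁻¹ := congrArg Subtype.val h
      have h3 := mul_right_cancel h2
      rw [QuotientGroup.eq, Subgroup.mem_centralizer_singleton_iff]
      calc u⁻¹ * v * y = u⁻¹ * (v * y * v⁻¹) * v := by group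
        _ = u⁻¹ * (u * y * u⁻¹) * v := by rw [h3]
        _ = _ := by group
    exact Nat.card_le_card_of_injective f hf
  have h2 := Subgroup.card_mul_index (Subgroup.centralizer ({y} : Set P))
  have h3 := Subgroup.card_mul_index (commutator (P : Subgroup G))
  rw [hcard] at h2
  have h4 : (commutator (P : Subgroup G)).index ≤ p ^ 2 := by
    have h5 : 0 < Nat.card (commutator (P : Subgroup G)) := Nat.card_pos
    apply Nat.le_of_mul_le_mul_left _ h5
    rw [h3, ← h2, mul_comm]
    exact Nat.mul_le_mul_right _ h1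
  -- lower bound
  obtain ⟨n, hn⟩ := IsPGroup.iff_card.1 P.2
  have h5 : (commutator (P : Subgroup G)).index ∣ p ^ n := by
    rw [← hn]; exact Subgroup.index_dvd_card _
  obtain ⟨j, hj, hj'⟩ := (Nat.dvd_prime_pow hp).1 h5
  rw [hj'] at h4 ⊢
  have h6 : j ≤ 2 := (Nat.pow_le_pow_iff_right hp.one_lt).1 h4
  by_contra hne
  have h7 : j ≤ 1 := by
    by_contra h8
    apply hne
    have : j = 2 := by omega
    rw [this]
  have h8 : (commutator (P : Subgroup G)).index ∣ p := by
    rw [hj']
    interval_cases j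
    · rw [pow_zero]; exact one_dvd p
    · rw [pow_one]
  have h9 := card_dvd_of_index P.2 h8
  have h10 : p ^ 2 ∣ Nat.card (P : Subgroup G) := by
    rw [P.card_eq_multiplicity]
    exact pow_dvd_pow p ((hp.pow_dvd_iff_le_factorization Nat.card_pos.ne').1 hbig)
  have h11 := Nat.le_of_dvd hp.pos (h10.trans h9)
  have h12 := hp.one_lt
  nlinarith

end Cfsg.Agent.H627.TateIndex
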