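import Mathlib
import Cfsg.Prelude.Def_Solvable
import Cfsg.Agent.Lib.Cores
import Cfsg.Agent.Lib.MinNormal
import Cfsg.Agent.Lib.MinNormalNonabelian
import Cfsg.Agent.Lib.SylowNormalInf
import Cfsg.Agent.QTUniq.SylowSup
import Cfsg.Agent.H627.TateIndex

/-!
# Sylow subgroups with derived subgroup of index `p²`: minimal normal subgroups
-/

set_option autoImplicit false
open scoped commutatorElement Pointwise

namespace Cfsg.Agent.H627.TateMinimal

open Cfsg.Agent.H627.TateIndex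
open Cfsg.Agent.Lib.MinNormal Cfsg.Agent.Lib.MinNormalNonabelian

/-- Transfer of an element of a normal subgroup whose nontrivial translates are killed. -/
theorem transfer_eq {P : Type*} [Group P] [Finite P] (Q : Subgroup P) [hQ : Q.Normal]
    {A : Type*} [CommGroup A] (φ : Q →* A) (t : Q)
    (h : ∀ (g : P) (hg : g⁻¹ * t * g ∈ Q), g ∉ Q → φ ⟨g⁻¹ * t * g, hg⟩ = 1) :
    MonoidHom.transfer φ (t : P) = φ t := by
  classical
  have hfix : ∀ q : P ⧸ Q, (t : P)⁻¹ • q = q := by
    intro q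
    obtain ⟨g, rfl⟩ := QuotientGroup.mk_surjective q
    show (QuotientGroup.mk ((t : P)⁻¹ * g) : P ⧸ Q) = QuotientGroup.mk g
    rw [QuotientGroup.eq]
    have h1 : ((t : P)⁻¹ * g)⁻¹ * g = g⁻¹ * t * g⁻¹⁻¹ := by group
    rw [h1]
    exact hQ.conj_mem _ t.2 g⁻¹
  let T : Q.LeftTransversal := default
  rw [MonoidHom.transfer_def φ T]
  let _ := Q.fintypeQuotientOfFiniteIndex
  have hβ : ∀ q : P ⧸ Q, (((t : P) • T).2.leftQuotientEquiv q : P) =
      (t : P) * (T.2.leftQuotientEquiv q : P) := by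
    intro q
    have h1 := Subgroup.smul_apply_eq_smul_apply_inv_smul (t : P) T q
    rw [hfix q] at h1
    exact h1
  have hα : ∀ q : P ⧸ Q, (QuotientGroup.mk (T.2.leftQuotientEquiv q : P) : P ⧸ Q) = q :=
    fun q => T.2.leftQuotientEquiv.symm_apply_apply q
  unfold Subgroup.leftTransversals.diff
  have h1 : ∀ q : P ⧸ Q, ∀ hh : ((T.2.leftQuotientEquiv q : P))⁻¹ *
      (((t : P) • T).2.leftQuotientEquiv q : P) ∈ Q, q ≠ ((1 : P) : P ⧸ Q) →
      φ ⟨_, hh⟩ = 1 := by
    intro q hh hq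
    have h2 : (T.2.leftQuotientEquiv q : P) ∉ Q := by
      intro h3
      apply hq
      rw [← hα q, QuotientGroup.eq]
      simpa using h3
    have h3 : (T.2.leftQuotientEquiv q : P)⁻¹ * (t : P) * (T.2.leftQuotientEquiv q : P) ∈ Q := by
      have h4 := hQ.conj_mem _ t.2 (T.2.leftQuotientEquiv q : P)⁻¹
      rwa [inv_inv] at h4
    rw [← h _ h3 h2]
    congr 1
    apply Subtype.ext
    show (T.2.leftQuotientEquiv q : P)⁻¹ * _ = _
    rw [hβ q]
    exact (mul_assoc _ _ _).symm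
  refine (Finset.prod_eq_single ((1 : P) : P ⧸ Q) (fun q _ hq => h1 q _ hq)
    (fun h => absurd (Finset.mem_univ _) h)).trans ?_
  have h2 : (T.2.leftQuotientEquiv ((1 : P) : P ⧸ Q) : P) ∈ Q := by
    have h3 := hα ((1 : P) : P ⧸ Q)
    rw [QuotientGroup.eq] at h3
    simpa using h3
  have h3 : ∀ hh, φ ⟨(T.2.leftQuotientEquiv ((1 : P) : P ⧸ Q) : P)⁻¹ *
      (((t : P) • T).2.leftQuotientEquiv ((1 : P) : P ⧸ Q) : P), hh⟩ = φ t := by
    intro hh
    have h4 : (⟨(T.2.leftQuotientEquiv ((1 : P) : P ⧸ Q) : P)⁻¹ *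
      (((t : P) • T).2.leftQuotientEquiv ((1 : P) : P ⧸ Q) : P), hh⟩ : Q) =
        ⟨_, h2⟩⁻¹ * t * ⟨_, h2⟩ := by
      apply Subtype.ext
      show (T.2.leftQuotientEquiv ((1 : P) : P ⧸ Q) : P)⁻¹ * _ = _
      rw [hβ]
      simp [mul_assoc]
    rw [h4, map_mul, map_mul, map_inv, mul_comm (φ _)⁻¹, mul_assoc, inv_mul_cancel, mul_one]
  exact h3 _

/-- A `P`-stable family of subgroups has `P`-stable supremum. -/
theorem le_normalizer_sSup_of_stable {G : Type*} [Group G] (P : Subgroup G)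
    (s : Set (Subgroup G))
    (h : ∀ S ∈ s, ∀ g ∈ P, S.map (MulAut.conj g).toMonoidHom ∈ s) :
    P ≤ Subgroup.normalizer ((sSup s : Subgroup G) : Set G) := by
  have h1 : ∀ g ∈ P, (sSup s).map (MulAut.conj g).toMonoidHom ≤ sSup s := by
    intro g hg
    rw [sSup_eq_iSup, Subgroup.map_iSup]
    refine iSup_le fun S => ?_
    rw [Subgroup.map_iSup]
    refine iSup_le fun hS => ?_
    rw [← sSup_eq_iSup]
    exact le_sSup (h S hS g hg)
  intro k hk
  rw [Subgroup.mem_normalizer_iff_map_conj_eq]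
  refine le_antisymm (h1 k hk) ?_
  have h2 := Subgroup.map_mono (f := (MulAut.conj k).toMonoidHom) (h1 k⁻¹ (P.inv_mem hk))
  rw [map_conj_map_conj, mul_inv_cancel, map_conj_one] at h2
  exact h2

section Main

variable {G : Type*} [Group G] [Finite G] {p : ℕ} [Fact p.Prime] (P : Sylow p G)

/-- Nontrivial normal subgroups. -/
theorem not_inf_le (hcore : Cfsg.pPrimeCore p G = ⊥)
    (hcore' : (⁅(P : Subgroup G), (P : Subgroup G)⁆).normalCore = ⊥) (N : Subgroup G) [hN : N.Normal]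
    (hN0 : N ≠ ⊥) : ¬ N ⊓ (P : Subgroup G) ≤ ⁅(P : Subgroup G), (P : Subgroup G)⁆ := by
  have hp : p.Prime := Fact.out
  intro hle
  obtain ⟨K, hK⟩ := exists_regular_subgroup P N hle
  have hKn : K.Normal := by
    refine ⟨fun k hk g => ?_⟩
    have h1 := (hK k).1 hk
    refine (hK _).2 ⟨hN.conj_mem _ h1.1 g, ?_⟩
    have h2 : orderOf (g * k * g⁻¹) = orderOf k := (MulAut.conj g).orderOf_eq k
    rw [h2]
    exact h1.2
  have hKc : (Nat.card K).Coprime p := by
    rw [Nat.coprime_comm, hp.coprime_iff_not_dvd]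
    intro hdvd
    obtain ⟨x, hx⟩ := exists_prime_orderOf_dvd_card' p hdvd
    apply ((hK x).1 x.2).2
    rw [Subgroup.orderOf_coe, hx]
  have hK0 : K = ⊥ := by
    rw [eq_bot_iff, ← hcore]
    exact Cfsg.Agent.Lib.Cores.le_pPrimeCore hKn hKc
  have hNp : IsPGroup p N := by
    rw [IsPGroup.iff_orderOf]
    intro g
    obtain ⟨k, m, hm, hkm⟩ := Nat.exists_eq_pow_mul_and_not_dvd (orderOf_pos g).ne' p hp.ne_one
    refine ⟨k, ?_⟩
    have h1 : ((g ^ p ^ k : N) : G) ∈ K := by
      refine (hK _).2 ⟨(g ^ p ^ k : N).2, ?_⟩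
      rw [Subgroup.orderOf_coe, orderOf_pow' g (pow_pos hp.pos k).ne', hkm,
        Nat.gcd_eq_right (Dvd.intro _ rfl), Nat.mul_div_cancel_left _ (pow_pos hp.pos k)]
      exact hm
    rw [hK0, Subgroup.mem_bot] at h1
    have h2 : g ^ p ^ k = 1 := Subtype.ext h1
    have h3 := orderOf_dvd_of_pow_eq_one h2
    rw [hkm] at h3
    have h4 : p ^ k * m ∣ p ^ k * 1 := by rwa [mul_one]
    have h5 := Nat.dvd_of_mul_dvd_mul_left (pow_pos hp.pos k) h4
    rw [hkm, Nat.dvd_one.1 h5, mul_one]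
  have hNP : N ≤ (P : Subgroup G) := LocalStructure.normal_le_sylow N hNp P
  have hND : N ≤ ⁅(P : Subgroup G), (P : Subgroup G)⁆ := by
    rwa [inf_eq_left.2 hNP] at hle
  apply hN0
  rw [eq_bot_iff, ← hcore']
  exact Subgroup.normal_le_normalCore.2 hND

theorem index_subgroupOf_dvd (hidx : (commutator (P : Subgroup G)).index = p ^ 2)
    (A : Subgroup G) (hPA : (P : Subgroup G) ≤ Subgroup.normalizer (A : Set G))
    (h : ¬ A ⊓ (P : Subgroup G) ≤ ⁅(P : Subgroup G), (P : Subgroup G)⁆) :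
    (A.subgroupOf (P : Subgroup G)).index ∣ p := by
  have hn : (A.subgroupOf (P : Subgroup G)).Normal := by
    refine ⟨fun a ha g => ?_⟩
    exact ((Subgroup.mem_normalizer_iff.1 (hPA g.2)) a).1 ha
  refine index_dvd P.2 _ hidx ?_
  intro hle
  apply h
  rintro y ⟨hy1, hy2⟩
  rw [← commutator_map_subtype]
  exact ⟨⟨y, hy2⟩, hle (show (⟨y, hy2⟩ : (P : Subgroup G)) ∈ A.subgroupOf (P : Subgroup G) from hy1),
    rfl⟩

/-- Two subgroups normalised by `P`, not meeting `P` inside `P'`, intersect nontrivially. -/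
theorem inf_ne_bot (hidx : (commutator (P : Subgroup G)).index = p ^ 2)
    (hbig : p ^ 2 < Nat.card P)
    (A B : Subgroup G) (hPA : (P : Subgroup G) ≤ Subgroup.normalizer (A : Set G))
    (hPB : (P : Subgroup G) ≤ Subgroup.normalizer (B : Set G))
    (hA : ¬ A ⊓ (P : Subgroup G) ≤ ⁅(P : Subgroup G), (P : Subgroup G)⁆)
    (hB : ¬ B ⊓ (P : Subgroup G) ≤ ⁅(P : Subgroup G), (P : Subgroup G)⁆) : A ⊓ B ≠ ⊥ := by
  intro h
  have h1 := index_subgroupOf_dvd P hidx A hPA hA
  have h2 := index_subgroupOf_dvd P hidx B hPB hB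
  have h3 : A.subgroupOf (P : Subgroup G) ⊓ B.subgroupOf (P : Subgroup G) = ⊥ := by
    rw [eq_bot_iff]
    rintro x ⟨hxA, hxB⟩
    have h4 : (x : G) ∈ A ⊓ B := ⟨hxA, hxB⟩
    rw [h, Subgroup.mem_bot] at h4
    exact Subtype.ext h4
  have h4 := card_le_sq Fact.out _ _ h3 h1 h2
  omega

/-- A `P`-stable family of components. -/
theorem not_sSup_inf_le (hcore : Cfsg.pPrimeCore p G = ⊥) (N : Subgroup G) [hN : N.Normal]
    (hc : ∀ T ∈ minSet N, ∀ z ∈ T, (∀ t ∈ T, Commute z t) → z = 1)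
    (s : Set (Subgroup G)) (hs : s ⊆ minSet N) (hne : s.Nonempty)
    (hst : ∀ S ∈ s, ∀ g ∈ (P : Subgroup G), S.map (MulAut.conj g).toMonoidHom ∈ s) :
    ¬ (sSup s) ⊓ (P : Subgroup G) ≤ ⁅(P : Subgroup G), (P : Subgroup G)⁆ := by
  have hp : p.Prime := Fact.out
  intro hle
  have hPs := le_normalizer_sSup_of_stable (P : Subgroup G) s hst
  obtain ⟨K, hK⟩ := exists_regular_subgroup' P (sSup s) hPs hle
  have hNs : N ≤ Subgroup.normalizer ((sSup s : Subgroup G) : Set G) :=
    le_normalizer_sSup fun T hT => (hs hT).2.2.1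
  have hsN : sSup s ≤ N := sSup_le fun T hT => (hs hT).1
  have hKN : K ≤ N := fun k hk => hsN ((hK k).1 hk).1
  have hKn : (K.subgroupOf N).Normal := by
    refine ⟨fun k hk g => ?_⟩
    have h1 := (hK k).1 hk
    refine (hK _).2 ⟨((Subgroup.mem_normalizer_iff.1 (hNs g.2)) k).1 h1.1, ?_⟩
    have h2 : orderOf ((g : G) * k * (g : G)⁻¹) = orderOf (k : G) :=
      (MulAut.conj (g : G)).orderOf_eq (k : G)
    show ¬ p ∣ orderOf ((g : G) * k * (g : G)⁻¹)
    rw [h2]
    exact h1.2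
  have hKc : (Nat.card (K.subgroupOf N)).Coprime p := by
    rw [Nat.coprime_comm, hp.coprime_iff_not_dvd]
    intro hdvd
    obtain ⟨x, hx⟩ := exists_prime_orderOf_dvd_card' p hdvd
    apply ((hK x).1 x.2).2
    rw [Subgroup.orderOf_coe, Subgroup.orderOf_coe, hx]
  have hcoreN : Cfsg.pPrimeCore p N = ⊥ := by
    have h1 := Cfsg.Agent.Lib.Cores.map_subtype_pPrimeCore p hN
    rw [hcore, inf_bot_eq] at h1
    exact (Subgroup.map_eq_bot_iff_of_injective _ N.subtype_injective).1 h1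
  have hK0 : K.subgroupOf N = ⊥ := by
    rw [eq_bot_iff, ← hcoreN]
    exact Cfsg.Agent.Lib.Cores.le_pPrimeCore hKn hKc
  have hK1 : ∀ k ∈ K, k = 1 := by
    intro k hk
    have h1 : (⟨k, hKN hk⟩ : N) ∈ K.subgroupOf N := hk
    rw [hK0, Subgroup.mem_bot] at h1
    exact congrArg Subtype.val h1
  obtain ⟨T, hT⟩ := hne
  have hTp : IsPGroup p T := by
    rw [IsPGroup.iff_orderOf]
    intro g
    obtain ⟨k, m, hm, hkm⟩ := Nat.exists_eq_pow_mul_and_not_dvd (orderOf_pos g).ne' p hp.ne_one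
    refine ⟨k, ?_⟩
    have h1 : ((g ^ p ^ k : T) : G) ∈ K := by
      refine (hK _).2 ⟨le_sSup hT (g ^ p ^ k : T).2, ?_⟩
      rw [Subgroup.orderOf_coe, orderOf_pow' g (pow_pos hp.pos k).ne', hkm,
        Nat.gcd_eq_right (Dvd.intro _ rfl), Nat.mul_div_cancel_left _ (pow_pos hp.pos k)]
      exact hm
    have h2 : g ^ p ^ k = 1 := Subtype.ext (hK1 _ h1)
    have h3 := orderOf_dvd_of_pow_eq_one h2
    rw [hkm] at h3
    have h4 : p ^ k * m ∣ p ^ k * 1 := by rwa [mul_one]
    have h5 := Nat.dvd_of_mul_dvd_mul_left (pow_pos hp.pos k) h4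
    rw [hkm, Nat.dvd_one.1 h5, mul_one]
  have hTnt : Nontrivial T := by
    rw [Subgroup.nontrivial_iff_ne_bot]
    exact (hs hT).2.1
  have hcn := hTp.center_nontrivial
  obtain ⟨z, hz⟩ := exists_ne (1 : Subgroup.center T)
  apply hz
  have h1 : ((z : T) : G) = 1 := by
    apply hc T (hs hT) _ (z : T).2
    intro t ht
    have h2 := Subgroup.mem_center_iff.1 z.2 ⟨t, ht⟩
    exact (congrArg Subtype.val h2).symm
  exact Subtype.ext (Subtype.ext h1)

/-- An abelian minimal normal subgroup. -/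
theorem abelian_case (hcore : Cfsg.pPrimeCore p G = ⊥)
    (hcore' : (⁅(P : Subgroup G), (P : Subgroup G)⁆).normalCore = ⊥)
    (hidx : (commutator (P : Subgroup G)).index = p ^ 2) (hbig : p ^ 2 < Nat.card P)
    (N : Subgroup G) [hN : N.Normal] (hN0 : N ≠ ⊥)
    (hab : ∀ x ∈ N, ∀ y ∈ N, Commute x y) :
    (∀ a ∈ N ⊓ (P : Subgroup G), ∀ b ∈ N ⊓ (P : Subgroup G), a * b = b * a) ∧
      (N.subgroupOf (P : Subgroup G)).index = p := by
  have hp : p.Prime := Fact.out
  refine ⟨fun a ha b hb => (hab a ha.1 b hb.1).eq, ?_⟩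
  have h1 := index_subgroupOf_dvd P hidx N
    (by rw [Subgroup.normalizer_eq_top]; exact le_top) (not_inf_le P hcore hcore' N hN0)
  rcases (Nat.dvd_prime hp).1 h1 with h2 | h2
  · exfalso
    rw [Subgroup.index_eq_one, Subgroup.subgroupOf_eq_top] at h2
    have h3 : commutator (P : Subgroup G) = ⊥ := by
      rw [eq_bot_iff, commutator_eq_closure, Subgroup.closure_le]
      rintro _ ⟨a, b, rfl⟩
      rw [SetLike.mem_coe, Subgroup.mem_bot, commutatorElement_eq_one_iff_mul_comm]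
      exact Subtype.ext (hab a (h2 a.2) b (h2 b.2)).eq
    rw [h3, Subgroup.index_bot] at hidx
    omega
  · exact h2

/-- A nonabelian minimal normal subgroup. -/
theorem nonabelian_case (hcore : Cfsg.pPrimeCore p G = ⊥)
    (hcore' : (⁅(P : Subgroup G), (P : Subgroup G)⁆).normalCore = ⊥)
    (hnas : ¬ ∃ S : Subgroup G, S.Normal ∧ IsSimpleGroup S ∧ ¬ IsMulCommutative S ∧
      Subgroup.centralizer (S : Set G) = ⊥)
    (hidx : (commutator (P : Subgroup G)).index = p ^ 2) (hbig : p ^ 2 < Nat.card P)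
    (N : Subgroup G) [hN : N.Normal] (hN0 : N ≠ ⊥)
    (hmin : ∀ M : Subgroup G, M.Normal → M ≤ N → M = ⊥ ∨ M = N)
    (hna : ¬ ∀ x ∈ N, ∀ y ∈ N, Commute x y) :
    (∀ a ∈ N ⊓ (P : Subgroup G), ∀ b ∈ N ⊓ (P : Subgroup G), a * b = b * a) ∧
      (N.subgroupOf (P : Subgroup G)).index = p := by
  classical
  have hp : p.Prime := Fact.out
  have hPn : ∀ M : Subgroup G, M.Normal → (P : Subgroup G) ≤ Subgroup.normalizer (M : Set G) :=
    fun M hM => by rw [Subgroup.normalizer_eq_top]; exact le_top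
  obtain ⟨hne, hind, hsup, hsimple, hc, -⟩ := nonabelian_structure N hmin hna
  -- the centralizer of `N` is trivial
  have hCN : Subgroup.centralizer (N : Set G) ⊓ N = ⊥ := by
    rcases hmin (Subgroup.centralizer (N : Set G) ⊓ N) inferInstance inf_le_right with h | h
    · exact h
    · exfalso
      apply hna
      intro x hx y hy
      rw [← h] at hx
      exact (Subgroup.mem_centralizer_iff.1 hx.1 y hy).symm
  have hC : Subgroup.centralizer (N : Set G) = ⊥ := by
    by_contra hC0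
    exact inf_ne_bot P hidx hbig _ N (hPn _ inferInstance) (hPn N hN)
      (not_inf_le P hcore hcore' _ hC0) (not_inf_le P hcore hcore' N hN0) hCN
  -- distinct components commute
  have hcomm : ∀ S ∈ minSet N, ∀ T ∈ minSet N, S ≠ T → ∀ x ∈ S, ∀ y ∈ T, Commute x y :=
    fun S hS T hT hST x hx y hy => commute_of_mem hind (fun S hS => hS.2.2.1)
      (fun S hS => hS.1) hS hT hST hx hy
  obtain ⟨T, hT⟩ := hne
  -- `P` is transitive on the components
  have htrans : ∀ S ∈ minSet N, ∃ g ∈ (P : Subgroup G), S = T.map (MulAut.conj g).toMonoidHom := by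
    by_contra hcon
    push Not at hcon
    obtain ⟨S₀, hS₀, hS₀'⟩ := hcon
    set O : Set (Subgroup G) :=
      {S | ∃ g ∈ (P : Subgroup G), S = T.map (MulAut.conj g).toMonoidHom} with hO
    have hOsub : O ⊆ minSet N := by
      rintro _ ⟨g, -, rfl⟩
      exact map_conj_mem_minSet hT g
    have hOst : ∀ S ∈ O, ∀ g ∈ (P : Subgroup G), S.map (MulAut.conj g).toMonoidHom ∈ O := by
      rintro _ ⟨h, hh, rfl⟩ g hg
      exact ⟨g * h, mul_mem hg hh, map_conj_map_conj g h T⟩
    have hOne : O.Nonempty := ⟨T, 1, one_mem _, (map_conj_one T).symm⟩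
    have hO'sub : minSet N \ O ⊆ minSet N := Set.sdiff_subset
    have hO'st : ∀ S ∈ minSet N \ O, ∀ g ∈ (P : Subgroup G),
        S.map (MulAut.conj g).toMonoidHom ∈ minSet N \ O := by
      rintro S ⟨hS, hS'⟩ g hg
      refine ⟨map_conj_mem_minSet hS g, fun h => hS' ?_⟩
      have h2 := hOst _ h g⁻¹ (inv_mem hg)
      rwa [map_conj_map_conj, inv_mul_cancel, map_conj_one] at h2
    have hO'ne : (minSet N \ O).Nonempty := ⟨S₀, hS₀, fun ⟨g, hg, h⟩ => hS₀' g hg h⟩
    refine inf_ne_bot P hidx hbig (sSup O) (sSup (minSet N \ O))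
      (le_normalizer_sSup_of_stable _ _ hOst) (le_normalizer_sSup_of_stable _ _ hO'st)
      (not_sSup_inf_le P hcore N hc O hOsub hOne hOst)
      (not_sSup_inf_le P hcore N hc _ hO'sub hO'ne hO'st) ?_
    rw [eq_bot_iff, ← hCN]
    rintro x ⟨hx1, hx2⟩
    have hxN : x ∈ N := by
      have h3 : sSup O ≤ N := sSup_le fun S hS => (hOsub hS).1
      exact h3 hx1
    refine ⟨?_, hxN⟩
    have hcc : ∀ a ∈ sSup O, ∀ b ∈ sSup (minSet N \ O), a * b = b * a := by
      have h4 : ∀ S ∈ O, ∀ b ∈ sSup (minSet N \ O), ∀ a ∈ S, a * b = b * a := by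
        intro S hS b hb a ha
        have h5 : sSup (minSet N \ O) ≤ Subgroup.centralizer ({a} : Set G) := by
          refine sSup_le fun R hR r hr => ?_
          rw [Subgroup.mem_centralizer_singleton_iff]
          refine (hcomm R hR.1 S (hOsub hS) ?_ r hr a ha).eq
          rintro rfl
          exact hR.2 hS
        exact (Subgroup.mem_centralizer_singleton_iff.1 (h5 hb)).symm
      intro a ha b hb
      have h5 : sSup O ≤ Subgroup.centralizer ({b} : Set G) := by
        refine sSup_le fun R hR r hr => ?_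
        rw [Subgroup.mem_centralizer_singleton_iff]
        exact h4 R hR b hb r hr
      exact Subgroup.mem_centralizer_singleton_iff.1 (h5 ha)
    have h6 : sSup (minSet N) ≤ Subgroup.centralizer ({x} : Set G) := by
      refine sSup_le fun R hR r hr => ?_
      rw [Subgroup.mem_centralizer_singleton_iff]
      by_cases hRO : R ∈ O
      · exact hcc r (le_sSup hRO hr) x hx2
      · exact (hcc x hx1 r (le_sSup (show R ∈ minSet N \ O from ⟨hR, hRO⟩) hr)).symm
    rw [hsup] at h6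
    show x ∈ Subgroup.centralizer (N : Set G)
    rw [Subgroup.mem_centralizer_iff]
    intro y hy
    exact Subgroup.mem_centralizer_singleton_iff.1 (h6 hy)
  -- `P` does not normalise `T`
  have hNT : N ≤ Subgroup.normalizer (T : Set G) := hT.2.2.1
  have hPT : ¬ (P : Subgroup G) ≤ Subgroup.normalizer (T : Set G) := by
    intro h
    have h1 : N = T := by
      apply le_antisymm _ hT.1
      rw [← hsup]
      refine sSup_le fun S hS => ?_
      obtain ⟨g, hg, rfl⟩ := htrans S hS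
      exact le_of_eq (Subgroup.mem_normalizer_iff_map_conj_eq.1 (h hg))
    apply hnas
    refine ⟨N, hN, h1 ▸ hsimple T hT, ?_, hC⟩
    intro h2
    apply hna
    intro x hx y hy
    exact congrArg Subtype.val (h2.is_comm.comm (⟨x, hx⟩ : N) ⟨y, hy⟩)
  have hPN : ¬ (P : Subgroup G) ≤ N := fun h => hPT (h.trans hNT)
  have hQi : (N.subgroupOf (P : Subgroup G)).index = p := by
    have h1 := index_subgroupOf_dvd P hidx N (hPn N hN) (not_inf_le P hcore hcore' N hN0)
    rcases (Nat.dvd_prime hp).1 h1 with h2 | h2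
    · exfalso
      rw [Subgroup.index_eq_one, Subgroup.subgroupOf_eq_top] at h2
      exact hPN h2
    · exact h2
  refine ⟨?_, hQi⟩
  -- the stabiliser of `T` in `P`
  have hstab : ∀ g ∈ (P : Subgroup G), T.map (MulAut.conj g).toMonoidHom = T → g ∈ N := by
    intro g hg hgT
    by_contra hgN
    have h1 : N.subgroupOf (P : Subgroup G) ≤
        (Subgroup.normalizer (T : Set G)).subgroupOf (P : Subgroup G) :=
      fun y hy => hNT hy
    have h2 := Subgroup.relIndex_mul_index h1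
    rw [hQi] at h2
    have h3 : ((Subgroup.normalizer (T : Set G)).subgroupOf (P : Subgroup G)).index ∣ p :=
      Dvd.intro_left _ h2
    rcases (Nat.dvd_prime hp).1 h3 with h4 | h4
    · rw [Subgroup.index_eq_one, Subgroup.subgroupOf_eq_top] at h4
      exact hPT h4
    · rw [h4] at h2
      have h5 : (N.subgroupOf (P : Subgroup G)).relIndex
          ((Subgroup.normalizer (T : Set G)).subgroupOf (P : Subgroup G)) = 1 := by
        apply Nat.eq_of_mul_eq_mul_right hp.pos
        rw [h2, one_mul]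
      rw [Subgroup.relIndex_eq_one] at h5
      apply hgN
      exact h5 (show (⟨g, hg⟩ : (P : Subgroup G)) ∈ _ from
        Subgroup.mem_normalizer_iff_map_conj_eq.2 hgT)
  -- elements of `P ∩ N` modulo the centralizer of `T`
  have hsplit : ∀ q ∈ N, q ∈ (P : Subgroup G) → ∃ t ∈ T, t ∈ (P : Subgroup G) ∧
      t⁻¹ * q ∈ Subgroup.centralizer (T : Set G) := by
    intro q hqN hqP
    have hTn : (T.subgroupOf N).Normal := by
      refine ⟨fun a ha g => ?_⟩
      exact ((Subgroup.mem_normalizer_iff.1 (hNT g.2)) a).1 ha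
    set A : Subgroup N := T.subgroupOf N with hA
    set B : Subgroup N := Subgroup.centralizer (A : Set N) with hB
    have hAB : A ⊔ B = ⊤ := by
      rw [eq_top_iff]
      intro x _
      have h1 : sSup (minSet N) ≤ (A ⊔ B).map N.subtype := by
        refine sSup_le fun S hS => ?_
        by_cases hST : S = T
        · rw [hST]
          intro t ht
          exact ⟨⟨t, hT.1 ht⟩, Subgroup.mem_sup_left (show _ ∈ A from ht), rfl⟩
        · intro y hy
          refine ⟨⟨y, hS.1 hy⟩, Subgroup.mem_sup_right ?_, rfl⟩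
          rw [hB, Subgroup.mem_centralizer_iff]
          intro t ht
          exact Subtype.ext (hcomm S hS T hT hST y hy t ht).eq.symm
      rw [hsup] at h1
      obtain ⟨y, hy, hyx⟩ := h1 x.2
      have h2 : y = x := Subtype.ext hyx
      rwa [h2] at hy
    let PN : Sylow p N := (Cfsg.Agent.Lib.SylowNormalInf.isPGroup_subgroupOf P N).toSylow
      (Cfsg.Agent.Lib.SylowNormalInf.not_dvd_relIndex P N)
    have hPN' : (PN : Subgroup N) = (P : Subgroup G).subgroupOf N := rfl
    have h1 := Cfsg.Agent.QTUniq.SylowSup.inf_sup_le PN A B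
    rw [hAB, inf_top_eq, hPN'] at h1
    have h2 : (⟨q, hqN⟩ : N) ∈ (P : Subgroup G).subgroupOf N := hqP
    have h3 := h1 h2
    have h4 : (P : Subgroup G).subgroupOf N ⊓ A ≤
        Subgroup.normalizer (((P : Subgroup G).subgroupOf N ⊓ B : Subgroup N) : Set N) := by
      intro a ha
      rw [Subgroup.mem_normalizer_iff]
      have hac : ∀ b ∈ B, a * b * a⁻¹ = b := by
        intro b hb
        rw [hB, Subgroup.mem_centralizer_iff] at hb
        rw [hb a ha.2]; group
      intro b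
      constructor
      · intro hb
        rw [hac b hb.2]
        exact hb
      · intro hb
        have h5 : a * b * a⁻¹ ∈ B := hb.2
        have h6 : b ∈ B := by
          have h7 := Subgroup.Normal.conj_mem (inferInstance : B.Normal) _ h5 a⁻¹
          have h8 : a⁻¹ * (a * b * a⁻¹) * a⁻¹⁻¹ = b := by group
          rwa [h8] at h7
        rw [hac b h6] at hb
        exact hb
    have h5 : (⟨q, hqN⟩ : N) ∈ (((P : Subgroup G).subgroupOf N ⊓ A ⊔
        (P : Subgroup G).subgroupOf N ⊓ B : Subgroup N) : Set N) := h3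
    rw [Subgroup.coe_mul_of_left_le_normalizer_right _ _ h4] at h5
    obtain ⟨t, ht, c, hcB, htc⟩ := h5
    refine ⟨t, ht.2, ht.1, ?_⟩
    have h6 : (t : G) * c = q := congrArg Subtype.val htc
    have h7 : (t : G)⁻¹ * q = c := by rw [← h6]; group
    rw [h7, Subgroup.mem_centralizer_iff]
    intro u hu
    have h8 : c ∈ B := hcB.2
    rw [hB, Subgroup.mem_centralizer_iff] at h8
    exact congrArg Subtype.val (h8 ⟨u, hT.1 hu⟩ hu)
  -- the action on `T`
  set Q : Subgroup (P : Subgroup G) := N.subgroupOf (P : Subgroup G) with hQ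
  let ι : Q →* Subgroup.normalizer (T : Set G) :=
    ((P : Subgroup G).subtype.comp Q.subtype).codRestrict _ (fun q => hNT q.2)
  let ρ : Q →* MulAut T := T.normalizerMonoidHom.comp ι
  have hρ : ∀ q : Q, ρ q = 1 ↔ ((q : (P : Subgroup G)) : G) ∈ Subgroup.centralizer (T : Set G) := by
    intro q
    have h1 : ρ q = 1 ↔ ι q ∈ T.normalizerMonoidHom.ker := by
      rw [MonoidHom.mem_ker]; rfl
    rw [h1, Subgroup.normalizerMonoidHom_ker]
    exact Iff.rfl
  let φ : Q →* Abelianization ρ.range := Abelianization.of.comp ρ.rangeRestrict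
  have hφ1 : ∀ q : Q, ρ q = 1 → φ q = 1 := by
    intro q hq
    have h1 : ρ.rangeRestrict q = 1 := Subtype.ext hq
    show Abelianization.of (ρ.rangeRestrict q) = 1
    rw [h1, map_one]
  let f : (P : Subgroup G) →* Abelianization ρ.range := MonoidHom.transfer φ
  have hft : ∀ t : Q, ((t : (P : Subgroup G)) : G) ∈ T → f (t : (P : Subgroup G)) = φ t := by
    intro t ht
    refine transfer_eq Q φ t ?_
    intro g hg hgQ
    apply hφ1
    rw [hρ, Subgroup.mem_centralizer_iff]
    intro u hu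
    have h1 : T.map (MulAut.conj ((g : G)⁻¹)).toMonoidHom ≠ T := by
      intro h2
      apply hgQ
      have h3 := hstab ((g : G)⁻¹) (inv_mem g.2) h2
      exact (inv_mem_iff (H := N)).1 h3
    have h2 : (g : G)⁻¹ * t * g ∈ T.map (MulAut.conj ((g : G)⁻¹)).toMonoidHom :=
      ⟨_, ht, by simp⟩
    exact (hcomm _ (map_conj_mem_minSet hT _) T hT h1 _ h2 u hu).eq.symm
  have hfQ : Q.map f = ⊤ := by
    rw [eq_top_iff]
    intro a _
    obtain ⟨m, rfl⟩ := QuotientGroup.mk_surjective a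
    obtain ⟨q, hq⟩ := ρ.rangeRestrict_surjective m
    obtain ⟨t, htT, htP, htq⟩ := hsplit _ q.2 (q : (P : Subgroup G)).2
    have htQ : (⟨t, htP⟩ : (P : Subgroup G)) ∈ Q := hT.1 htT
    refine ⟨⟨t, htP⟩, htQ, ?_⟩
    have h1 := hft ⟨⟨t, htP⟩, htQ⟩ htT
    have h2 : φ (⟨⟨t, htP⟩, htQ⟩⁻¹ * q) = 1 := by
      apply hφ1
      rw [hρ]
      exact htq
    rw [map_mul, map_inv, inv_mul_eq_one] at h2
    rw [h1, h2]
    show Abelianization.of (ρ.rangeRestrict q) = _
    rw [hq]
    rfl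
  have hle : commutator (P : Subgroup G) ≤ Q := by
    have h2 : IsCyclic ((P : Subgroup G) ⧸ Q) := isCyclic_of_prime_card (p := p) hQi
    have h3 : ∀ a b : (P : Subgroup G) ⧸ Q, a * b = b * a := by
      intro a b
      exact (inferInstance : IsMulCommutative ((P : Subgroup G) ⧸ Q)).is_comm.comm a b
    rw [commutator_eq_closure, Subgroup.closure_le]
    rintro _ ⟨a, b, rfl⟩
    rw [SetLike.mem_coe, ← QuotientGroup.eq_one_iff, commutatorElement_def, QuotientGroup.mk_mul,
      QuotientGroup.mk_mul, QuotientGroup.mk_mul, QuotientGroup.mk_inv, QuotientGroup.mk_inv,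
      h3 (QuotientGroup.mk a) (QuotientGroup.mk b)]
    group
  have hrel : (commutator (P : Subgroup G)).relIndex Q = p := by
    have h1 := Subgroup.relIndex_mul_index hle
    rw [hidx, hQi, sq] at h1
    exact Nat.eq_of_mul_eq_mul_right hp.pos h1
  have hcard : Nat.card (Abelianization ρ.range) ∣ p := by
    have h1 := Subgroup.relIndex_ker (K := Q) f
    rw [hfQ, Subgroup.card_top] at h1
    rw [← h1]
    have h2 := Subgroup.relIndex_dvd_of_le_left Q (Abelianization.commutator_subset_ker f)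
    rwa [hrel] at h2
  have hMp : IsPGroup p ρ.range := by
    have h1 : IsPGroup p Q := P.2.to_subgroup Q
    exact IsPGroup.of_surjective h1 ρ.rangeRestrict ρ.rangeRestrict_surjective
  have hM : Nat.card ρ.range ∣ p := card_dvd_of_index hMp hcard
  have hMc : ∀ a b : ρ.range, a * b = b * a := by
    rcases (Nat.dvd_prime hp).1 hM with h1 | h1
    · intro a b
      have : Subsingleton ρ.range := (Nat.card_eq_one_iff_unique.1 h1).1
      exact Subsingleton.elim _ _
    · have h2 : IsCyclic ρ.range := isCyclic_of_prime_card h1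
      intro a b
      exact (inferInstance : IsMulCommutative ρ.range).is_comm.comm a b
  have hTc : ∀ a ∈ N ⊓ (P : Subgroup G), ∀ b ∈ N ⊓ (P : Subgroup G),
      ⁅a, b⁆ ∈ Subgroup.centralizer (T : Set G) := by
    intro a ha b hb
    have h1 := hMc (ρ.rangeRestrict ⟨⟨a, ha.2⟩, ha.1⟩) (ρ.rangeRestrict ⟨⟨b, hb.2⟩, hb.1⟩)
    have h2 : ρ ⟨⟨a, ha.2⟩, ha.1⟩ * ρ ⟨⟨b, hb.2⟩, hb.1⟩ =
        ρ ⟨⟨b, hb.2⟩, hb.1⟩ * ρ ⟨⟨a, ha.2⟩, ha.1⟩ := congrArg Subtype.val h1
    have h3 : ρ ⁅(⟨⟨a, ha.2⟩, ha.1⟩ : Q), (⟨⟨b, hb.2⟩, hb.1⟩ : Q)⁆ = 1 := by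
      rw [map_commutatorElement, commutatorElement_eq_one_iff_mul_comm]
      exact h2
    rw [hρ] at h3
    exact h3
  intro a ha b hb
  have hall : sSup (minSet N) ≤ Subgroup.centralizer ({⁅a, b⁆} : Set G) := by
    refine sSup_le fun S hS => ?_
    obtain ⟨g, hg, rfl⟩ := htrans S hS
    rintro _ ⟨t, ht, rfl⟩
    rw [Subgroup.mem_centralizer_singleton_iff]
    have hconj : ∀ c ∈ N ⊓ (P : Subgroup G), g⁻¹ * c * g ∈ N ⊓ (P : Subgroup G) := by
      intro c hc'
      refine ⟨?_, (P : Subgroup G).mul_mem ((P : Subgroup G).mul_mem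
        ((P : Subgroup G).inv_mem hg) hc'.2) hg⟩
      have h1 := hN.conj_mem c hc'.1 g⁻¹
      rwa [inv_inv] at h1
    have h1 := hTc _ (hconj a ha) _ (hconj b hb)
    rw [Subgroup.mem_centralizer_iff] at h1
    have h2 := h1 t ht
    have h3 : ⁅g⁻¹ * a * g, g⁻¹ * b * g⁆ = g⁻¹ * ⁅a, b⁆ * g := by
      simp only [commutatorElement_def]
      group
    rw [h3] at h2
    show g * t * g⁻¹ * ⁅a, b⁆ = ⁅a, b⁆ * (g * t * g⁻¹)
    calc g * t * g⁻¹ * ⁅a, b⁆ = g * (t * (g⁻¹ * ⁅a, b⁆ * g)) * g⁻¹ := by group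
      _ = g * (g⁻¹ * ⁅a, b⁆ * g * t) * g⁻¹ := by rw [h2]
      _ = _ := by group
  rw [hsup] at hall
  have h1 : ⁅a, b⁆ ∈ Subgroup.centralizer (N : Set G) := by
    rw [Subgroup.mem_centralizer_iff]
    intro y hy
    exact Subgroup.mem_centralizer_singleton_iff.1 (hall hy)
  rw [hC, Subgroup.mem_bot] at h1
  exact commutatorElement_eq_one_iff_mul_comm.1 h1

end Main

end Cfsg.Agent.H627.TateMinimal
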